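import Groth.Agent.KFlatLib.Ring.RgammaCompletion
import Groth.Agent.KFlatLib.Ring.LTenLinear
import Groth.Agent.LC.CohBasic
import Groth.Agent.S1812
import Groth.Agent.S1816
import Groth.Agent.GrLib8.AlgLC

/-!
# Annihilators of derived completions of derived torsion
-/

set_option autoImplicit false
set_option linter.style.haveILetI false
set_option backward.isDefEq.respectTransparency false

universe u

open CategoryTheory CategoryTheory.Limits Pretriangulated DerivedCategory

attribute [local instance] HasDerivedCategory.standard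

namespace Groth.Agent.GrLib8.CplKill

open Groth.Agent.KFlatLib

variable {A : Type u} [CommRing A]

theorem hasRgammaI (I : Ideal A) : DRing.HasRgammaI I :=
  (Groth.Agent.S1032.result (fun L => by
    obtain ⟨I', f, h1, h2, -, -⟩ := TriCat.exists_kInjective_resolution'.{u} L
    exact ⟨I', f, h1, h2⟩) (DRing.gammaIKh I)).1

/-- Maps from a bounded above object to an object with killed cohomology are killed. -/
theorem pow_smul_hom_eq_zero (f : A) {b : ℤ} (L : Dual.D A) [L.IsLE b] : ∀ (n : ℕ) (Z : Dual.D A) (a : ℤ),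
    Z.IsGE a → b + 1 = a + n → (∀ q : ℤ, q ≤ b → ∀ x : Dual.HD A Z q, f • x = 0) →
    ∀ h : L ⟶ Z, f ^ n • h = 0 := by
  intro n
  induction n with
  | zero =>
    intro Z a hZ hn _ h
    haveI := hZ
    rw [pow_zero, one_smul]
    exact TStructure.t.zero h b a (by omega)
  | succ n ih =>
    intro Z a hZ hn hk h
    haveI := hZ
    let t := TStructure.t (C := ModuleCat.{u} A)
    let P := (t.truncLT (a + 1)).obj Z
    let ι : P ⟶ Z := (t.truncLTι (a + 1)).app Z
    let Z' := (t.truncGE (a + 1)).obj Z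
    let π : Z ⟶ Z' := (t.truncGEπ (a + 1)).app Z
    haveI : P.IsLE a := t.isLE_truncLT_obj ..
    haveI : Z'.IsGE (a + 1) := t.isGE_truncGE_obj ..
    have hk' : ∀ q : ℤ, q ≤ b → ∀ x : Dual.HD A Z' q, f • x = 0 := by
      intro q hq x
      by_cases hqa : q < a + 1
      · exact @Subsingleton.elim _ (ModuleCat.subsingleton_of_isZero (DerivedCategory.isZero_of_isGE Z' (a + 1) q hqa)) _ _
      haveI : IsIso ((homologyFunctor (ModuleCat.{u} A) q).map π) :=
        H9Misc.isIso_map_truncGEπ (a + 1) q (by omega) Z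
      obtain ⟨y, rfl⟩ := ((ConcreteCategory.isIso_iff_bijective ((homologyFunctor (ModuleCat.{u} A) q).map π)).1
        inferInstance).2 x
      rw [← map_smul, show f • (show Dual.HD A Z q from y) = 0 from hk q hq y, map_zero]
    have h1 : (f ^ n • h) ≫ π = 0 := by
      rw [Linear.smul_comp]
      exact ih Z' (a + 1) inferInstance (by omega) hk' (h ≫ π)
    obtain ⟨k, hk1⟩ := Triangle.coyoneda_exact₂ _ (t.triangleLTGE_distinguished (a + 1) Z) (f ^ n • h) h1
    have hι : f • ι = 0 := by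
      refine (bijective_homologyMap a).1 (ModuleCat.hom_ext (LinearMap.ext fun y => ?_))
      simp only [Functor.map_smul, Functor.map_zero, ModuleCat.hom_smul, ModuleCat.hom_zero, LinearMap.smul_apply,
        LinearMap.zero_apply]
      exact hk a (by omega) _
    rw [pow_succ', mul_smul, hk1]
    show f • (k ≫ ι) = 0
    rw [← Linear.comp_smul, hι, comp_zero]

/-- Killing local cohomology of a module kills the direct limit in the derived category. -/
theorem smul_eq_zero_of_kill_H (I : Ideal A) (M : ModuleCat.{u} A) (j : ℕ) (c : A)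
    (hc : ∀ z : (localCohomology I j).obj M, c • z = 0)
    (w : RgammaHDI.T I (((DerivedCategory.singleFunctor (ModuleCat.{u} A) 0).obj M)⟦(j : ℤ)⟧)) : c • w = 0 := by
  obtain ⟨n, u, rfl⟩ := RgammaHDI.exists_inc I _ w
  let e := Abelian.Ext.homEquiv (X := LC.qObj I n) (Y := M) (n := j)
  obtain ⟨m, hm, hx⟩ := (LC.toH_eq_zero_iff I j (c • e.symm u)).1 (by rw [map_smul]; exact hc _)
  rw [← map_smul, ← RgammaHDI.inc_qpMap I _ hm]
  rw [LC.res_apply] at hx
  have h2 := congrArg Abelian.Ext.hom hx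
  rw [Abelian.Ext.comp_hom, Abelian.Ext.mk₀_hom, ShiftedHom.mk₀_comp, Abelian.Ext.zero_hom, Abelian.Ext.smul_hom,
    show (e.symm u).hom = u from e.apply_symm_apply u] at h2
  exact (congrArg _ h2).trans (map_zero _)

theorem subsingleton_T_of_neg (I : Ideal A) (M : ModuleCat.{u} A) (q : ℤ) (hq : q < 0) :
    Subsingleton (RgammaHDI.T I (((DerivedCategory.singleFunctor (ModuleCat.{u} A) 0).obj M)⟦q⟧)) := by
  refine subsingleton_of_forall_eq 0 fun w => ?_
  obtain ⟨n, u, rfl⟩ := RgammaHDI.exists_inc I _ w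
  haveI : (((DerivedCategory.singleFunctor (ModuleCat.{u} A) 0).obj M)⟦q⟧).IsGE (-q) :=
    TStructure.t.isGE_shift _ 0 q (-q) (by omega)
  rw [TStructure.t.zero u 0 (-q) (by omega), map_zero]

/-- The limit only depends on the object up to isomorphism. -/
noncomputable def Tiso (I : Ideal A) {L L' : Dual.D A} (e : L ≅ L') : RgammaHDI.T I L ≃ₗ[A] RgammaHDI.T I L' :=
  (Limits.colim.mapIso (Functor.isoWhiskerLeft (RgammaHDI.diag I) ((linearYoneda A (Dual.D A)).mapIso e))).toLinearEquiv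

theorem smul_hd_rgamma (I : Ideal A) [DRing.HasRgammaI I] (K : Dual.D A) (M : ModuleCat.{u} A) (q q' : ℤ)
    (e : K⟦q⟧ ≅ ((DerivedCategory.singleFunctor (ModuleCat.{u} A) 0).obj M)⟦q'⟧) (c : A)
    (hc : ∀ j : ℕ, (j : ℤ) = q' → ∀ z : (localCohomology I j).obj M, c • z = 0) (hI : I.FG)
    (x : Dual.HD A ((DRing.RgammaI I).obj K) q) : c • x = 0 := by
  obtain ⟨e₁⟩ := Groth.Agent.S1812.result A I hI K q
  let e₂ : Dual.HD A ((DRing.RgammaI I).obj K) q ≃ₗ[A]
      RgammaHDI.T I (((DerivedCategory.singleFunctor (ModuleCat.{u} A) 0).obj M)⟦q'⟧) := e₁.trans (Tiso I e)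
  refine e₂.injective ?_
  rw [map_smul, map_zero]
  rcases lt_or_ge q' 0 with hq | hq
  · exact @Subsingleton.elim _ (subsingleton_T_of_neg I M q' hq) _ _
  · obtain ⟨j, rfl⟩ : ∃ j : ℕ, (j : ℤ) = q' := ⟨q'.toNat, by omega⟩
    exact smul_eq_zero_of_kill_H I M j c (hc j rfl) _

variable [IsNoetherianRing A] (I : Ideal A) [DRing.HasDerivedCompletion I]

/-- Maps out of a free generator into a completion come from maps out of its torsion. -/
theorem smul_hom_cpl [DRing.HasRgammaI I] (Y G : Dual.D A) (c : A)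
    (h : ∀ φ : (DRing.RgammaI I).obj G ⟶ (DRing.RgammaI I).obj Y, c • φ = 0)
    (φ : G ⟶ ((DRing.derivedCompletion I).obj Y).obj) : c • φ = 0 := by
  let Z := ((DRing.derivedCompletion I).obj Y).obj
  refine (RgammaCompletion.bijective_rgammaε_precomp I G Z ((DRing.derivedCompletion I).obj Y).property).1 ?_
  show (DRing.RgammaIε I).app G ≫ (c • φ) = (DRing.RgammaIε I).app G ≫ 0
  rw [comp_zero, Linear.comp_smul]
  obtain ⟨g, hg⟩ := (rgammaε_bijective I _ Z (isPowerTorsion_hd_rgamma I G)).2 ((DRing.RgammaIε I).app G ≫ φ)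
  haveI := RgammaCompletion.isIso_rgamma_toCompletion I Y
  have h1 := h (g ≫ inv ((DRing.RgammaI I).map (DRing.toDerivedCompletion I Y)))
  have hg0 : c • g = 0 := by
    rw [← cancel_mono (inv ((DRing.RgammaI I).map (DRing.toDerivedCompletion I Y))), Linear.smul_comp, h1, zero_comp]
  rw [← hg]
  show c • (g ≫ (DRing.RgammaIε I).app Z) = 0
  rw [← Linear.smul_comp, hg0, zero_comp]

/-- The criterion. -/
theorem smul_hd_cpl (J : Ideal A) [DRing.HasRgammaI J] (M : Type u) [AddCommGroup M] [Module A M] (d b : ℕ)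
    (hd : LocCoh.CdLE A I d) (hdb : d ≤ b) (f : A)
    (hf : ∀ j : ℕ, j ≤ b → ∀ z : (localCohomology (J ⊔ I) j).obj (ModuleCat.of A M), f • z = 0) (i : ℤ)
    (hi : i + d ≤ b) (x : Dual.HD A ((DRing.derivedCompletion I).obj ((DRing.RgammaI J).obj (Dual.inD A M))).obj i) :
    f ^ (b + 1) • x = 0 := by
  haveI := hasRgammaI I
  haveI := hasRgammaI (J ⊔ I)
  obtain ⟨eH⟩ := exists_homUnitLEquiv ((DRing.derivedCompletion I).obj ((DRing.RgammaI J).obj (Dual.inD A M))).obj (-i) i
    (by omega)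
  let G : Dual.D A := (DTen.unit A)⟦-i⟧
  let F := DerivedCategory.singleFunctor (ModuleCat.{u} A) 0
  let eU : DTen.unit A ≅ F.obj (ModuleCat.of A A) :=
    ((DerivedCategory.singleFunctorIsoCompQ (ModuleCat.{u} A) 0).app (ModuleCat.of A A)).symm
  haveI : ((DRing.RgammaI I).obj G).IsLE b := (DerivedCategory.isLE_iff _ _).2 fun q hq => by
    refine @ModuleCat.isZero_of_subsingleton _ _ _ (subsingleton_of_forall_eq 0 fun y => ?_)
    rw [← one_smul A y]
    refine smul_hd_rgamma I G (ModuleCat.of A A) q (q - i)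
      (((shiftFunctorAdd' (Dual.D A) (-i) q (q - i) (by omega)).app (DTen.unit A)).symm ≪≫
        (shiftFunctor (Dual.D A) (q - i)).mapIso eU) 1 (fun j hj z => ?_) (IsNoetherian.noetherian I) y
    haveI : Subsingleton ((localCohomology I j).obj (ModuleCat.of A A)) := hd A j (by omega)
    exact Subsingleton.elim _ _
  obtain ⟨eZ⟩ := Groth.Agent.S1816.result A J I (Dual.inD A M)
  let Z := (DRing.RgammaI (J ⊔ I)).obj (Dual.inD A M)
  have hkill : ∀ q : ℤ, ∀ y : Dual.HD A Z q, q ≤ b → f • y = 0 := fun q y hq =>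
    smul_hd_rgamma (J ⊔ I) (Dual.inD A M) (ModuleCat.of A M) q q (Iso.refl _) f
      (fun j hj z => hf j (by omega) z) (IsNoetherian.noetherian _) y
  haveI : Z.IsGE 0 := (DerivedCategory.isGE_iff _ _).2 fun q hq => by
    refine @ModuleCat.isZero_of_subsingleton _ _ _ (subsingleton_of_forall_eq 0 fun y => ?_)
    rw [← one_smul A y]
    exact smul_hd_rgamma (J ⊔ I) (Dual.inD A M) (ModuleCat.of A M) q q (Iso.refl _) 1
      (fun j hj => absurd hj (by omega)) (IsNoetherian.noetherian _) y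
  obtain ⟨φ, rfl⟩ := eH.surjective x
  rw [← map_smul, ← map_zero eH]
  refine congrArg _ (smul_hom_cpl I _ G _ (fun ψ => ?_) φ)
  rw [← cancel_mono eZ.hom, Linear.smul_comp, zero_comp]
  exact pow_smul_hom_eq_zero f _ (b + 1) Z 0 inferInstance (by push_cast; ring) (fun q hq y => hkill q y hq) _

/-- A multiplier off a prime killing local cohomology in a range. -/
theorem exists_kill_notMem (hA : ∃ ω : Dual.D A, Dual.IsDualizing A ω) (K : Ideal A) (M : Type u) [AddCommGroup M]
    [Module A M] [Module.Finite A M] (p : PrimeSpectrum A) (b : ℕ)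
    (h : ∀ p' : PrimeSpectrum A, p' ≤ p → ∀ q : PrimeSpectrum A, p' ≤ q → K ≤ q.asIdeal →
      ((b : ℕ∞) : WithBot ℕ∞) < ((LocCoh.depth (Localization.AtPrime p'.asIdeal)
        (LocalizedModule p'.asIdeal.primeCompl M) : ℕ∞) : WithBot ℕ∞) + Formal2.dimBetween A p'.asIdeal q.asIdeal) :
    ∃ f : A, f ∉ p.asIdeal ∧ ∀ j : ℕ, j ≤ b → ∀ z : (localCohomology K j).obj (ModuleCat.of A M), f • z = 0 := by
  obtain ⟨ω, hω⟩ := hA
  obtain ⟨n, -, hcov, hmono, -⟩ := KFlatLib.exists_extDegree hω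
  obtain ⟨C, hC, hk⟩ := FaltingsDual.exists_kill_of_cond ⟨ω, hω⟩ (PrimeSpectrum.zeroLocus (K : Set A))
    {q | ¬ q ≤ p} (fun q q' hs hq hq' => hq (((PrimeSpectrum.le_iff_specializes q q').2 hs).trans hq')) b M
    fun p' hp' q hq hpq => by
      obtain ⟨δ, hδ, hδn⟩ := ProZ.exists_dim_eq hcov hmono p' q hpq
      have h1 := h p' (not_not.1 hp') q hpq hq
      rw [hδ] at h1
      exact lt_of_lt_of_le h1 (add_le_add le_rfl (AlgLC.natCast_le_krullDim_Icc hcov hmono hpq hδn.symm))
  obtain ⟨f, hf, hfp⟩ := SetLike.not_le_iff_exists.1 (fun hle : C ≤ p.asIdeal => hC hle le_rfl)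
  exact ⟨f, hfp, fun j hj z => hk K subset_rfl j hj f hf z⟩

/-- Annihilators off a prime for the derived completion. -/
theorem exists_notMem_smul (hA : ∃ ω : Dual.D A, Dual.IsDualizing A ω) (J : Ideal A) [DRing.HasRgammaI J]
    (M : Type u) [AddCommGroup M] [Module A M] [Module.Finite A M] (p : PrimeSpectrum A) (s d : ℕ)
    (hd : LocCoh.CdLE A I d)
    (h : ∀ p' : PrimeSpectrum A, p' ≤ p → ∀ q : PrimeSpectrum A, p' ≤ q → J ≤ q.asIdeal → I ≤ q.asIdeal →
      (((d + s : ℕ) : ℕ∞) : WithBot ℕ∞) < ((LocCoh.depth (Localization.AtPrime p'.asIdeal)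
        (LocalizedModule p'.asIdeal.primeCompl M) : ℕ∞) : WithBot ℕ∞) + Formal2.dimBetween A p'.asIdeal q.asIdeal) :
    ∃ g : A, g ∉ p.asIdeal ∧ ∀ i : ℤ, i ≤ s →
      ∀ x : Dual.HD A ((DRing.derivedCompletion I).obj ((DRing.RgammaI J).obj (Dual.inD A M))).obj i, g • x = 0 := by
  obtain ⟨f, hf, hk⟩ := exists_kill_notMem hA (J ⊔ I) M p (d + s) fun p' hp' q hpq hq =>
    h p' hp' q hpq (le_sup_left.trans hq) (le_sup_right.trans hq)
  exact ⟨f ^ (d + s + 1), fun hm => hf (p.isPrime.mem_of_pow_mem _ hm),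
    fun i hi x => smul_hd_cpl I J M d (d + s) hd (Nat.le_add_right d s) f hk i (by push_cast; omega) x⟩

end Groth.Agent.GrLib8.CplKill

namespace Groth.Agent.GrLib8.CplKill

variable {A : Type u} [CommRing A] [IsNoetherianRing A] [IsLocalRing A]

/-- The depth-plus-dimension bound passes to smaller primes. -/
theorem lt_depth_add_dimBetween (hA : ∃ ω : Dual.D A, Dual.IsDualizing A ω) (M : Type u) [AddCommGroup M]
    [Module A M] [Module.Finite A M] {p p' q : PrimeSpectrum A} (hp : p' ≤ p) (hq : IsLocalRing.maximalIdeal A ≤ q.asIdeal)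
    (hpq : p' ≤ q) {b : ℕ}
    (h : ((b : ℕ∞) : WithBot ℕ∞) < ((LocCoh.depth (Localization.AtPrime p.asIdeal)
      (LocalizedModule p.asIdeal.primeCompl M) : ℕ∞) : WithBot ℕ∞) + ringKrullDim (A ⧸ p.asIdeal)) :
    ((b : ℕ∞) : WithBot ℕ∞) < ((LocCoh.depth (Localization.AtPrime p'.asIdeal)
      (LocalizedModule p'.asIdeal.primeCompl M) : ℕ∞) : WithBot ℕ∞) + Formal2.dimBetween A p'.asIdeal q.asIdeal := by
  obtain ⟨ω, hω⟩ := hA
  obtain ⟨n, -, hcov, hmono, -⟩ := KFlatLib.exists_extDegree hω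
  obtain rfl : q = IsLocalRing.closedPoint A :=
    le_antisymm (IsLocalRing.le_maximalIdeal q.isPrime.ne_top) hq
  obtain ⟨e, he, hen⟩ := KFlatLib.ringKrullDim_quotient_eq hcov hmono p
  obtain ⟨δ, hδ, hδn⟩ := ProZ.exists_dim_eq hcov hmono p' _ hpq
  rw [he] at h
  rw [hδ]
  have h1 := LC.depth_localized_le_add_height (M := M) p'.asIdeal p.asIdeal hp
  rw [← LC.height_Ici_eq p' p hp] at h1
  have h2 := FaltingsDual.height_le_of_strictMono hmono p' p hp
  have h3 := h1.trans (add_le_add le_rfl h2)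
  have h4 : (b : ℕ∞) < LocCoh.depth (Localization.AtPrime p.asIdeal) (LocalizedModule p.asIdeal.primeCompl M) + (e : ℕ∞) := by
    exact_mod_cast h
  have h5 : (b : ℕ∞) < LocCoh.depth (Localization.AtPrime p'.asIdeal) (LocalizedModule p'.asIdeal.primeCompl M) +
      ((δ : ℕ) : ℕ∞) := by
    have hsum : ((n p - n p').toNat : ℕ) + e = δ := by
      have := hmono.monotone hp
      omega
    refine h4.trans_le ?_
    rw [← hsum, Nat.cast_add, ← add_assoc]
    exact add_le_add h3 le_rfl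
  exact_mod_cast h5

end Groth.Agent.GrLib8.CplKill
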