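import Groth.Agent.GrLib8.CplKill.Tri
import Groth.Agent.KFlatLib.Ring.DualizingBottom
import Groth.Agent.KFlatLib.Ring.TenNakayama

/-!
# Induction on bounded objects with finite cohomology
-/

set_option autoImplicit false
set_option linter.style.haveILetI false
set_option backward.isDefEq.respectTransparency false

universe u

open CategoryTheory CategoryTheory.Limits Pretriangulated DerivedCategory

attribute [local instance] HasDerivedCategory.standard

namespace Groth.Agent.GrLib8.CplKill

open Groth.Agent.KFlatLib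

variable {A : Type u} [CommRing A] [IsNoetherianRing A]

theorem bounded_induction (G : Dual.D A → Prop) (hzero : ∀ Y, IsZero Y → G Y)
    (hmid : ∀ T ∈ distTriang (Dual.D A), G T.obj₁ → G T.obj₃ → G T.obj₂) (b : ℤ) :
    ∀ (n : ℕ) (Y : Dual.D A) (a : ℤ), Y.IsGE a → Y.IsLE b → b + 1 ≤ a + n →
      (∀ i, Module.Finite A (Dual.HD A Y i)) →
      (∀ (c : ℤ) (M : Type u) [AddCommGroup M] [Module A M] [Module.Finite A M], a ≤ c →
        Nonempty (Dual.HD A Y c ≃ₗ[A] M) → G ((Dual.inD A M)⟦-c⟧)) → G Y := by
  intro n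
  induction n with
  | zero =>
    intro Y a hY hYb hn _ _
    haveI := hY
    haveI := hYb
    exact hzero Y ((IsZero.iff_id_eq_zero Y).2 (TStructure.t.zero _ b a (by omega)))
  | succ n ih =>
    intro Y a hY hYb hn hfin hs
    haveI := hY
    haveI := hYb
    obtain ⟨M, T, hT, h₁, rfl, h₃, ⟨e⟩⟩ := exists_bottom_triangle Y a
    haveI := hfin a
    haveI : Module.Finite A M := Module.Finite.equiv e
    haveI : ((Dual.inD A M)⟦-a⟧).IsLE a := by
      haveI : (Dual.inD A M).IsLE 0 := inferInstanceAs (((DerivedCategory.singleFunctor (ModuleCat.{u} A) 0).obj _).IsLE 0)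
      exact TStructure.t.isLE_shift (Dual.inD A M) 0 (-a) a (by omega)
    haveI : T.obj₁.IsLE a := h₁ ▸ ‹_›
    haveI : T.obj₁.IsGE a := by
      rw [h₁]
      haveI : (Dual.inD A M).IsGE 0 := inferInstanceAs (((DerivedCategory.singleFunctor (ModuleCat.{u} A) 0).obj _).IsGE 0)
      exact TStructure.t.isGE_shift (Dual.inD A M) 0 (-a) a (by omega)
    have hiso : ∀ c : ℤ, a + 1 ≤ c →
        Nonempty (Dual.HD A T.obj₂ c ≃ₗ[A] Dual.HD A T.obj₃ c) := by
      intro c hc
      haveI : Mono ((DerivedCategory.homologyFunctor (ModuleCat.{u} A) c).map T.mor₂) :=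
        (DerivedCategory.HomologySequence.exact₂ _ hT c).mono_g
          ((DerivedCategory.isZero_of_isLE T.obj₁ a c (by omega)).eq_of_src _ _)
      haveI : Epi ((DerivedCategory.homologyFunctor (ModuleCat.{u} A) c).map T.mor₂) :=
        (DerivedCategory.HomologySequence.exact₃ _ hT c (c + 1) rfl).epi_f
          ((DerivedCategory.isZero_of_isLE T.obj₁ a (c + 1) (by omega)).eq_of_tgt _ _)
      exact ⟨(@asIso _ _ _ _ _ (isIso_of_mono_of_epi ((DerivedCategory.homologyFunctor (ModuleCat.{u} A) c).map T.mor₂))).toLinearEquiv⟩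
    have hfin₁ : ∀ i, Module.Finite A (Dual.HD A T.obj₁ i) := fun i => by
      by_cases hia : i = a
      · subst hia
        haveI : Mono ((DerivedCategory.homologyFunctor (ModuleCat.{u} A) i).map T.mor₁) :=
          (DerivedCategory.HomologySequence.exact₁ _ hT (i - 1) i (by omega)).mono_g
            ((DerivedCategory.isZero_of_isGE T.obj₃ (i + 1) (i - 1) (by omega)).eq_of_src _ _)
        haveI := hfin i
        exact Module.Finite.of_injective ((DerivedCategory.homologyFunctor (ModuleCat.{u} A) i).map T.mor₁).hom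
          ((ModuleCat.mono_iff_injective _).1 inferInstance)
      · haveI : Subsingleton (Dual.HD A T.obj₁ i) := ModuleCat.subsingleton_of_isZero (by
          rcases lt_or_gt_of_ne hia with h | h
          · exact DerivedCategory.isZero_of_isGE T.obj₁ a i h
          · exact DerivedCategory.isZero_of_isLE T.obj₁ a i h)
        exact Module.Finite.of_finite
    haveI := h₃
    have hLE : T.obj₃.IsLE b ∨ b < a := by
      rcases lt_or_ge b a with h | h
      · exact Or.inr h
      refine Or.inl ((DerivedCategory.isLE_iff _ _).2 fun q hq => ?_)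
      obtain ⟨e'⟩ := hiso q (by omega)
      haveI : Subsingleton (Dual.HD A T.obj₂ q) :=
        ModuleCat.subsingleton_of_isZero (DerivedCategory.isZero_of_isLE T.obj₂ b q hq)
      haveI : Subsingleton (Dual.HD A T.obj₃ q) := e'.symm.toEquiv.subsingleton
      exact ModuleCat.isZero_of_subsingleton _
    rcases hLE with hLE | hba
    swap
    · exact hzero _ ((IsZero.iff_id_eq_zero T.obj₂).2 (TStructure.t.zero _ b a hba))
    refine hmid T hT (by rw [h₁]; exact hs a M le_rfl ⟨e⟩) (ih T.obj₃ (a + 1) inferInstance hLE (by omega)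
      (finite_hd_obj₃ T hT hfin₁ hfin) fun c N _ _ _ hc ⟨eN⟩ => ?_)
    obtain ⟨e'⟩ := hiso c hc
    exact hs c N (by omega) ⟨e'.trans eN⟩

end Groth.Agent.GrLib8.CplKill
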