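import Groth.Agent.KFlatLib.Ring.Dualizing
import Groth.Agent.KFlatLib.Ring.DualizingRange
import Groth.Agent.KFlatLib.Ring.DualizingCd
import Groth.Agent.KFlatLib.Ring.ShriekViaDual
import Groth.Agent.KFlatLib.Ring.ShriekBasic
import Groth.Agent.KFlatLib.Ring.RgammaTorsion
import Groth.Agent.KFlatLib.Ring.TenNakayama
import Groth.Agent.S1812

/-!
# Degree bounds for duals of cyclic modules
-/

set_option autoImplicit false
set_option linter.style.haveILetI false
set_option backward.isDefEq.respectTransparency false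

universe u

open CategoryTheory CategoryTheory.Limits Pretriangulated MonoidalCategory

attribute [local instance] HasDerivedCategory.standard

namespace Groth.Agent.GrLib8.CplKill

open Groth.Agent.KFlatLib

variable {A : Type u} [CommRing A] [DTen.HasLTen A] [DTen.HasRHom A]

/-- Scalars killing a module kill its derived dual. -/
theorem smul_id_RHom (N : Type u) [AddCommGroup N] [Module A N] (L : Dual.D A) (x : A) (hx : ∀ w : N, x • w = 0) :
    x • 𝟙 ((DTen.RHomR A (Dual.inD A N)).obj L) = 0 := by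
  haveI := hasLTen₃ A
  haveI := isSymMonoidal A
  let X := (DTen.RHomR A (Dual.inD A N)).obj L
  haveI : (DTen.tensorRightD A X).PreservesZeroMorphisms := by
    haveI := preservesZeroMorphisms_LTen X
    exact Functor.preservesZeroMorphisms_of_iso (tenFlipIso X)
  have h1 : x • 𝟙 (Dual.inD A N) = 0 := by
    show x • 𝟙 ((DerivedCategory.singleFunctor (ModuleCat.{u} A) 0).obj (ModuleCat.of A N)) = 0
    rw [← CategoryTheory.Functor.map_id, ← Functor.map_smul,
      show x • 𝟙 (ModuleCat.of A N) = 0 from ModuleCat.hom_ext (LinearMap.ext hx), Functor.map_zero]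
  have h2 : x • 𝟙 ((DTen.LTen₂ A).obj (Dual.inD A N, X)) = 0 := by
    have h3 := ten_smul x (𝟙 (Dual.inD A N)) X
    rw [h1, Functor.map_zero, CategoryTheory.Functor.map_id] at h3
    exact h3.symm
  have h4 : x • 𝟙 ((DTen.LTen₂ A).obj (X, Dual.inD A N)) = 0 := by
    rw [← cancel_mono (DTen.braiding X (Dual.inD A N)).inv, zero_comp, Linear.smul_comp, Category.id_comp,
      ← Category.comp_id (DTen.braiding X (Dual.inD A N)).inv, ← Linear.comp_smul, h2, comp_zero]
  refine (rhomLEquiv X (Dual.inD A N) L).symm.injective ?_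
  rw [map_zero, map_smul, ← Category.id_comp ((rhomLEquiv X (Dual.inD A N) L).symm (𝟙 X)), ← Linear.smul_comp, h4,
    zero_comp]

/-- Derived hom out of a shift. -/
theorem nonempty_RHom_shift (N L : Dual.D A) (j : ℤ) :
    Nonempty ((DTen.RHomR A (N⟦j⟧)).obj L ≅ ((DTen.RHomR A N).obj L)⟦-j⟧) := by
  haveI := hasLTen₃ A
  haveI := isSymMonoidal A
  let U := (DTen.unit A)⟦j⟧
  let T := DTen.tensorRightD A
  obtain ⟨s⟩ := nonempty_tensorRight_shift (B := A) j (Iso.refl U)
  obtain ⟨i⟩ := nonempty_tensorLeft_shift_unit_iso (A := A) j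
  let c : T U ⋙ T N ≅ T ((DTen.LTen₂ A).obj (U, N)) := NatIso.ofComponents (fun Z => DTen.associator Z U N)
    fun {Z Z'} f => by
      have h₁ := associator_naturality f (𝟙 U) (𝟙 N)
      have hid : (DTen.LTen₂ A).map (Prod.mkHom (𝟙 U) (𝟙 N)) = 𝟙 _ := (DTen.LTen₂ A).map_id (U, N)
      rw [hid] at h₁
      exact h₁
  let c' : shiftFunctor (Dual.D A) j ⋙ T N ≅ T (N⟦j⟧) :=
    Functor.isoWhiskerRight s.symm _ ≪≫ c ≪≫ (DTen.LTen A).flip.mapIso (i.app N)
  let adjS := (shiftEquiv' (Dual.D A) j (-j) (add_neg_cancel j)).toAdjunction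
  exact ⟨(Adjunction.rightAdjointUniq (DTen.rhomAdj A (N⟦j⟧))
    ((adjS.comp (DTen.rhomAdj A N)).ofNatIsoLeft c')).app L⟩

variable [IsNoetherianRing A] {ω : Dual.D A} {n : PrimeSpectrum A → ℤ}

/-- The dual of a module has no cohomology below the degrees of its support. -/
theorem isGE_RHom (hn : IsExtDegree ω n) (N : Type u) [AddCommGroup N] [Module A N] [Module.Finite A N] (N₀ : ℤ)
    (h : ∀ P ∈ Module.support A N, N₀ ≤ n P) : ((DTen.RHomR A (Dual.inD A N)).obj ω).IsGE N₀ := by
  refine (DerivedCategory.isGE_iff _ _).2 fun k hk => ?_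
  obtain ⟨e⟩ := exists_hdRHomLEquiv (Dual.inD A N) ω k
  obtain ⟨e'⟩ := exists_shiftHomLEquiv (Dual.inD A N) ω k
  haveI := subsingleton_hom_module_of_lt hn N k fun P hP => lt_of_lt_of_le hk (h P hP)
  haveI : Subsingleton (Dual.HD A ((DTen.RHomR A (Dual.inD A N)).obj ω) k) :=
    (e.trans e'.symm).toEquiv.subsingleton
  exact ModuleCat.isZero_of_subsingleton _

theorem support_quot {I : Ideal A} {P : PrimeSpectrum A} :
    P ∈ Module.support A (A ⧸ I) ↔ I ≤ P.asIdeal := by
  rw [Module.support_eq_zeroLocus, Ideal.annihilator_quotient]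
  exact Iff.rfl

/-- Multiplication off the prime is injective on the bottom dual. -/
theorem eq_zero_of_smul_bottom (hn : IsExtDegree ω n) (hmono : StrictMono n) (Q : PrimeSpectrum A) {x : A}
    (hx : x ∉ Q.asIdeal) (φ : Dual.inD A (A ⧸ Q.asIdeal) ⟶ ω⟦n Q⟧) (h : x • φ = 0) : φ = 0 := by
  let f : (A ⧸ Q.asIdeal) →ₗ[A] (A ⧸ Q.asIdeal) := x • LinearMap.id
  have hf : Function.Injective f := by
    rw [← LinearMap.ker_eq_bot, LinearMap.ker_eq_bot']
    intro w hw
    obtain ⟨c, rfl⟩ := Submodule.Quotient.mk_surjective _ w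
    change Submodule.Quotient.mk (x * c) = 0 at hw
    exact (Submodule.Quotient.mk_eq_zero _).2
      ((Q.isPrime.mem_or_mem ((Submodule.Quotient.mk_eq_zero _).1 hw)).resolve_left hx)
  let R := LinearMap.range f
  have hmap : inDMap f ≫ φ = 0 := by
    change (DerivedCategory.singleFunctor (ModuleCat.{u} A) 0).map (x • 𝟙 (ModuleCat.of A (A ⧸ Q.asIdeal))) ≫ φ = 0
    rw [Functor.map_smul, CategoryTheory.Functor.map_id, Linear.smul_comp]
    exact (congrArg (x • ·) (Category.id_comp φ)).trans h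
  obtain ⟨ψ, hψ⟩ := exists_factor_inD (g := R.mkQ) hf R.mkQ_surjective (LinearMap.exact_map_mkQ_range f) _ φ hmap
  haveI := subsingleton_hom_module_of_lt hn ((A ⧸ Q.asIdeal) ⧸ R) (n Q) fun P hP => by
    have hle : Q ≤ P := support_quot.1 (Module.support_subset_of_surjective R.mkQ R.mkQ_surjective hP)
    refine hmono (lt_of_le_of_ne hle ?_)
    rintro rfl
    refine (Module.notMem_support_iff'.2 fun m => ⟨x, hx, ?_⟩) hP
    obtain ⟨y, rfl⟩ := R.mkQ_surjective m
    rw [← map_smul]
    exact (Submodule.Quotient.mk_eq_zero _).2 ⟨y, rfl⟩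
  rw [hψ, Subsingleton.elim ψ 0, comp_zero]

/-- Supported modules see the dual of a cyclic module only from the degrees of the intersection. -/
theorem subsingleton_hom_supported (hn : IsExtDegree ω n) (hmono : StrictMono n) (P : PrimeSpectrum A) (K : Ideal A) (N₀ : ℤ)
    (h : ∀ q : PrimeSpectrum A, P ≤ q → K ≤ q.asIdeal → N₀ ≤ n q) (m : ℤ) (hm : m < N₀) (𝔟 : Ideal A) :
    K ≤ 𝔟 → ∀ (N : Type u) [AddCommGroup N] [Module A N] [Module.Finite A N],
      (∀ q ∈ Module.support A N, 𝔟 ≤ q.asIdeal) →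
      Subsingleton (Dual.inD A N ⟶ ((DTen.RHomR A (Dual.inD A (A ⧸ P.asIdeal))).obj ω)⟦m⟧) := by
  induction 𝔟 using WellFoundedGT.induction with
  | _ 𝔟 ih =>
  intro hK N _ _ _ hN
  refine IsNoetherianRing.induction_on_isQuotientEquivQuotientPrime A (M := N) inferInstance
    (motive := fun N _ _ _ => (∀ q ∈ Module.support A N, 𝔟 ≤ q.asIdeal) →
      Subsingleton (Dual.inD A N ⟶ ((DTen.RHomR A (Dual.inD A (A ⧸ P.asIdeal))).obj ω)⟦m⟧))
    ?_ ?_ ?_ hN
  · intro N _ _ _ _ _
    exact subsingleton_of_forall_eq 0 fun f => ((DerivedCategory.singleFunctor (ModuleCat.{u} A) 0).map_isZero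
      (ModuleCat.isZero_of_subsingleton _)).eq_of_src f 0
  · intro N _ _ _ Q e hN
    suffices Subsingleton (Dual.inD A (A ⧸ Q.1) ⟶ ((DTen.RHomR A (Dual.inD A (A ⧸ P.asIdeal))).obj ω)⟦m⟧) from
      (((DerivedCategory.singleFunctor (ModuleCat.{u} A) 0).mapIso e.toModuleIso).homFromEquiv
        (Z := ((DTen.RHomR A (Dual.inD A (A ⧸ P.asIdeal))).obj ω)⟦m⟧)).subsingleton
    have hbQ : 𝔟 ≤ Q.asIdeal := hN Q (by rw [e.support_eq]; exact support_quot.2 le_rfl)
    by_cases hPQ : P ≤ Q
    · haveI := hasLTen₃ A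
      haveI := isSymMonoidal A
      let F := (DTen.RHomR A (Dual.inD A (A ⧸ Q.asIdeal))).obj ω
      haveI : F.IsGE (n Q) := isGE_RHom hn (A ⧸ Q.asIdeal) (n Q) fun r hr => hmono.monotone (support_quot.1 hr)
      haveI : (Dual.inD A (A ⧸ P.asIdeal)).IsLE 0 :=
        inferInstanceAs (((DerivedCategory.singleFunctor (ModuleCat.{u} A) 0).obj _).IsLE 0)
      haveI : (F⟦m⟧).IsGE (n Q - m) := DerivedCategory.TStructure.t.isGE_shift F (n Q) m (n Q - m) (by omega)
      have hlt : m < n Q := lt_of_lt_of_le hm (h Q hPQ (hK.trans hbQ))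
      obtain ⟨sP⟩ := nonempty_RHomR_shift (Dual.inD A (A ⧸ P.asIdeal)) m
      obtain ⟨sQ⟩ := nonempty_RHomR_shift (Dual.inD A (A ⧸ Q.asIdeal)) m
      refine subsingleton_of_forall_eq 0 fun φ => ?_
      have h0 : ((DTen.braiding (Dual.inD A (A ⧸ Q.asIdeal)) (Dual.inD A (A ⧸ P.asIdeal))).hom ≫
          (rhomLEquiv _ _ _).symm (φ ≫ sP.hom.app ω)) = 0 := by
        refine (rhomLEquiv (Dual.inD A (A ⧸ P.asIdeal)) (Dual.inD A (A ⧸ Q.asIdeal)) _).injective ?_
        rw [map_zero, ← cancel_mono (sQ.inv.app ω), zero_comp]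
        haveI : DerivedCategory.TStructure.t.IsGE
            ((DTen.RHomR A (Dual.inD A (A ⧸ Q.asIdeal)) ⋙ shiftFunctor (Dual.D A) m).obj ω) (n Q - m) :=
          (inferInstance : (F⟦m⟧).IsGE (n Q - m))
        exact DerivedCategory.TStructure.t.zero _ 0 (n Q - m) (by omega)
      rw [← cancel_mono (sP.hom.app ω), zero_comp]
      refine (rhomLEquiv _ _ _).symm.injective ?_
      rw [map_zero]
      exact (cancel_epi (DTen.braiding (Dual.inD A (A ⧸ Q.asIdeal)) (Dual.inD A (A ⧸ P.asIdeal))).hom).1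
        (h0.trans comp_zero.symm)
    · obtain ⟨x, hxP, hxQ⟩ := SetLike.not_le_iff_exists.1 (show ¬ P.asIdeal ≤ Q.asIdeal from hPQ)
      refine subsingleton_of_forall_eq 0 fun φ => ?_
      let f : (A ⧸ Q.asIdeal) →ₗ[A] (A ⧸ Q.asIdeal) := x • LinearMap.id
      have hf : Function.Injective f := by
        rw [← LinearMap.ker_eq_bot, LinearMap.ker_eq_bot']
        intro w hw
        obtain ⟨c, rfl⟩ := Submodule.Quotient.mk_surjective _ w
        change Submodule.Quotient.mk (x * c) = 0 at hw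
        exact (Submodule.Quotient.mk_eq_zero _).2
          ((Q.isPrime.mem_or_mem ((Submodule.Quotient.mk_eq_zero _).1 hw)).resolve_left hxQ)
      let R := LinearMap.range f
      have hmap : inDMap f ≫ φ = 0 := by
        change (DerivedCategory.singleFunctor (ModuleCat.{u} A) 0).map (x • 𝟙 (ModuleCat.of A (A ⧸ Q.asIdeal))) ≫ φ = 0
        rw [Functor.map_smul, CategoryTheory.Functor.map_id, Linear.smul_comp]
        refine (congrArg (x • ·) (Category.id_comp φ)).trans ?_
        have h0 := smul_id_RHom (A ⧸ P.asIdeal) ω x fun w => by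
          obtain ⟨c, rfl⟩ := Submodule.Quotient.mk_surjective _ w
          rw [← Submodule.Quotient.mk_smul, Submodule.Quotient.mk_eq_zero]
          exact P.asIdeal.mul_mem_right c hxP
        rw [← Category.comp_id φ, ← Linear.comp_smul, ← CategoryTheory.Functor.map_id, ← Functor.map_smul, h0,
          Functor.map_zero, comp_zero]
      obtain ⟨ψ, hψ⟩ := exists_factor_inD (g := R.mkQ) hf R.mkQ_surjective (LinearMap.exact_map_mkQ_range f) _ φ hmap
      have hlt : 𝔟 < Q.asIdeal ⊔ Ideal.span {x} := lt_of_le_of_lt hbQ (lt_of_le_of_ne le_sup_left fun e =>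
        hxQ (e ▸ Submodule.mem_sup_right (Ideal.mem_span_singleton_self x)))
      haveI := ih _ hlt (hK.trans hlt.le) ((A ⧸ Q.asIdeal) ⧸ R) fun r hr => by
        refine sup_le (support_quot.1 (Module.support_subset_of_surjective R.mkQ R.mkQ_surjective hr))
          ((Ideal.span_singleton_le_iff_mem _).2 (by_contra fun hxr => ?_))
        refine (Module.notMem_support_iff'.2 fun y => ⟨x, hxr, ?_⟩) hr
        obtain ⟨z, rfl⟩ := R.mkQ_surjective y
        rw [← map_smul]
        exact (Submodule.Quotient.mk_eq_zero _).2 ⟨z, rfl⟩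
      rw [hψ, Subsingleton.elim ψ 0, comp_zero]
  · intro N₁ _ _ _ N₂ _ _ _ N₃ _ _ _ f g hf hg hfg h₁ h₃ hN
    exact subsingleton_hom_inD_mid hf hg hfg _ (h₁ fun q hq => hN q (Module.support_subset_of_injective f hf hq))
      (h₃ fun q hq => hN q (Module.support_subset_of_surjective g hg hq))

/-- Derived torsion of the dual of a cyclic module starts at the intersection. -/
theorem isGE_rgamma_RHom (hn : IsExtDegree ω n) (hmono : StrictMono n) (P : PrimeSpectrum A) (K : Ideal A)
    [DRing.HasRgammaI K] (N₀ : ℤ) (h : ∀ q : PrimeSpectrum A, P ≤ q → K ≤ q.asIdeal → N₀ ≤ n q) :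
    ((DRing.RgammaI K).obj ((DTen.RHomR A (Dual.inD A (A ⧸ P.asIdeal))).obj ω)).IsGE N₀ := by
  let X := (DTen.RHomR A (Dual.inD A (A ⧸ P.asIdeal))).obj ω
  refine (DerivedCategory.isGE_iff _ _).2 fun q hq => ?_
  obtain ⟨e⟩ := Groth.Agent.S1812.result A K (IsNoetherian.noetherian K) X q
  have hs : Subsingleton (Dual2.HDI A K X q) := subsingleton_of_forall_eq 0 fun w => by
    obtain ⟨l, u, rfl⟩ := RgammaHDI.exists_inc K (X⟦q⟧) w
    haveI : Subsingleton ((DerivedCategory.singleFunctor (ModuleCat.{u} A) 0).obj (RgammaHDI.qp K l) ⟶ X⟦q⟧) :=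
      subsingleton_hom_supported hn hmono P K N₀ h q hq K le_rfl (A ⧸ K ^ l)
        fun r hr => r.isPrime.le_of_pow_le (support_quot.1 hr)
    rw [Subsingleton.elim u 0, map_zero]
  haveI : Subsingleton (Dual.HD A ((DRing.RgammaI K).obj X) q) := e.toEquiv.subsingleton
  exact ModuleCat.isZero_of_subsingleton _

end Groth.Agent.GrLib8.CplKill
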