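import Groth.Agent.GrLib8.CplKill.Tri
import Groth.Agent.H9Misc.DRingTelRestr
import Groth.Agent.KFlatLib.Ring.DualizingShriek
import Groth.Agent.S7096

/-!
# Maps from derived torsion to modules over a quotient
-/

set_option autoImplicit false
set_option linter.style.haveILetI false
set_option backward.isDefEq.respectTransparency false

universe u

open CategoryTheory CategoryTheory.Limits Pretriangulated DerivedCategory

attribute [local instance] HasDerivedCategory.standard

namespace Groth.Agent.GrLib8.CplKill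

open Groth.Agent.KFlatLib Groth.Agent.H9Misc Groth.Agent.H9Misc.DRingCompl

variable {A B : Type u} [CommRing A] [CommRing B]

/-- Cohomology of a restriction vanishes with the cohomology. -/
theorem subsingleton_HD_restrict (φ : A →+* B) (L : Dual.D B) (i : ℤ) (h : Subsingleton (Dual.HD B L i)) :
    Subsingleton (Dual.HD A ((DRing.restrictD φ).obj L) i) := by
  let F := ModuleCat.restrictScalars.{u} φ
  let K := DerivedCategory.Q.objPreimage L
  let e : DerivedCategory.Q.obj K ≅ L := DerivedCategory.Q.objObjPreimageIso L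
  let H := DerivedCategory.homologyFunctor (ModuleCat.{u} A) i
  let t : H.obj ((DRing.restrictD φ).obj L) ≅ F.obj ((DerivedCategory.homologyFunctor (ModuleCat.{u} B) i).obj L) :=
    H.mapIso ((DRing.restrictD φ).mapIso e.symm ≪≫ F.mapDerivedCategoryFactors.app K) ≪≫
      (DerivedCategory.homologyFunctorFactors (ModuleCat.{u} A) i).app _ ≪≫
      (K.sc i).mapHomologyIso F ≪≫
      F.mapIso (((DerivedCategory.homologyFunctorFactors (ModuleCat.{u} B) i).app K).symm ≪≫
        (DerivedCategory.homologyFunctor (ModuleCat.{u} B) i).mapIso e)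
  exact @Equiv.subsingleton _ _ t.toLinearEquiv.toEquiv h

variable [IsNoetherianRing A] [IsNoetherianRing B]

/-- The torsion of the free module lies in degrees at most the cohomological dimension. -/
theorem isLE_rgamma_unit (I : Ideal A) [DRing.HasRgammaI I] (c : ℕ) (hc : LocCoh.CdLE A I c) :
    ((DRing.RgammaI I).obj (Dual.inD A A)).IsLE c :=
  (DerivedCategory.isLE_iff _ _).2 fun q hq => by
    refine @ModuleCat.isZero_of_subsingleton _ _ _ (subsingleton_of_forall_eq 0 fun y => ?_)
    rw [← one_smul A y]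
    refine smul_hd_rgamma I (Dual.inD A A) (ModuleCat.of A A) q q (Iso.refl _) 1 (fun j hj z => ?_)
      (IsNoetherian.noetherian I) y
    haveI : Subsingleton ((localCohomology I j).obj (ModuleCat.of A A)) := hc A j (by omega)
    exact Subsingleton.elim _ _

/-- The degree bound. -/
theorem hom_single_eq_zero (I : Ideal A) [DRing.HasRgammaI I] (c : ℕ) (hc : LocCoh.CdLE A I c) (W : ModuleCat.{u} A)
    (r : ℤ) (hr : (c : ℤ) + r < 0)
    (ψ : (DRing.RgammaI I).obj (Dual.inD A A) ⟶ ((DerivedCategory.singleFunctor (ModuleCat.{u} A) 0).obj W)⟦r⟧) :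
    ψ = 0 := by
  haveI := isLE_rgamma_unit I c hc
  haveI : (((DerivedCategory.singleFunctor (ModuleCat.{u} A) 0).obj W)⟦r⟧).IsGE (-r) :=
    TStructure.t.isGE_shift _ 0 r (-r) (by omega)
  exact TStructure.t.zero ψ c (-r) (by omega)

/-- Completion over the target ring seen over the source. -/
theorem exists_completion_restrict (φ : A →+* B) (I : Ideal A) [DRing.HasRgammaI I]
    [DRing.HasRgammaI (I.map φ)] (X : Dual.D B) : ∀ l : List A, (∀ f ∈ l, f ∈ I) →
    ∃ (Y : Dual.D B) (η : X ⟶ Y), (∀ f ∈ l, Cg (φ f) Y) ∧ TB (I.map φ) η ∧ TB I ((DRing.restrictD φ).map η) := by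
  intro l hl
  induction l with
  | nil =>
    refine ⟨X, 𝟙 X, fun f hf => absurd hf List.not_mem_nil,
      fun L _ => ⟨fun a b h => by simpa using h, fun a => ⟨a, Category.comp_id a⟩⟩,
      fun L _ => ⟨fun a b h => by simpa using h, fun a => ⟨a, by simp⟩⟩⟩
  | cons f l ih =>
    obtain ⟨Y, η, hY, hB, hA⟩ := ih fun g hg => hl g (List.mem_cons_of_mem _ hg)
    obtain ⟨Z, θ, hθ, -, hg, W, j, d, hT, hW⟩ := exists_refl_one (φ f) Y
    have hfI := hl f List.mem_cons_self
    refine ⟨Z, η ≫ θ, fun g hg' => ?_, fun L hL => ?_, fun L hL => ?_⟩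
    · rcases List.mem_cons.1 hg' with rfl | hg'
      · exact hθ.mem
      · exact hg _ (hY g hg')
    · convert (RgammaCompletion.bijective_of_loc_cone (I.map φ) hT (Ideal.mem_map_of_mem φ hfI) hW L hL).comp
        (hB L hL) using 1
      funext g
      exact (Category.assoc _ _ _).symm
    · have hW' : RlimSmul.Loc f ((DRing.restrictD φ).obj W) := by
        haveI : IsIso (φ f • 𝟙 W) := hW
        show IsIso (f • 𝟙 _)
        rw [← CategoryTheory.Functor.map_id, ← restrictD_map_smul]
        infer_instance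
      convert (RgammaCompletion.bijective_of_loc_cone I ((DRing.restrictD φ).map_distinguished _ hT) hfI hW' L hL).comp
        (hA L hL) using 1
      funext g
      show g ≫ (DRing.restrictD φ).map (η ≫ θ) = (g ≫ _) ≫ (DRing.restrictD φ).map θ
      rw [Functor.map_comp, Category.assoc]

/-- Modules over the target ring receive nothing in low degrees. -/
theorem hom_restrict_eq_zero (φ : A →+* B) (I : Ideal A) [DRing.HasRgammaI I] [DRing.HasDerivedCompletion I]
    (c : ℕ) (hc : LocCoh.CdLE B (I.map φ) c) (W : ModuleCat.{u} B) (r : ℤ) (hr : (c : ℤ) + r < 0)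
    (ψ : (DRing.RgammaI I).obj (Dual.inD A A) ⟶
      ((DerivedCategory.singleFunctor (ModuleCat.{u} A) 0).obj ((ModuleCat.restrictScalars.{u} φ).obj W))⟦r⟧) :
    ψ = 0 := by
  classical
  haveI := hasRgammaI (I.map φ)
  haveI : DRing.HasDerivedCompletion (I.map φ) := Groth.Agent.S7096.result (I.map φ) (IsNoetherian.noetherian _)
  obtain ⟨s, hs⟩ := (IsNoetherian.noetherian I : I.FG)
  have hs' : Ideal.span (s : Set A) = I := hs
  let X := (DerivedCategory.singleFunctor (ModuleCat.{u} B) 0).obj W
  obtain ⟨Y, η, hY, hB, hA⟩ := exists_completion_restrict φ I X s.toList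
    (fun f hf => hs' ▸ Ideal.subset_span (Finset.mem_toList.1 hf))
  have hYc : DRing.IsDerivedComplete (I.map φ) Y :=
    (isDerivedComplete_iff_gens (s.image φ) (by rw [Finset.coe_image, ← Ideal.map_span, hs']) Y).2 fun g hg => by
      obtain ⟨f, hf, rfl⟩ := Finset.mem_image.1 (Finset.mem_toList.1 hg)
      exact hY f (Finset.mem_toList.2 hf)
  have hzero : Subsingleton (Dual.HD B Y r) := by
    obtain ⟨e⟩ := exists_homUnitLEquiv (Y⟦r⟧) 0 0 (add_zero 0)
    let eU : (DTen.unit B)⟦(0 : ℤ)⟧ ≅ Dual.inD B B := (shiftFunctorZero (Dual.D B) ℤ).app _ ≪≫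
      ((DerivedCategory.singleFunctorIsoCompQ (ModuleCat.{u} B) 0).app (ModuleCat.of B B)).symm
    have h1 : Subsingleton (Dual.HD B (Y⟦r⟧) 0) := @Equiv.subsingleton _ _ e.toEquiv.symm
      (subsingleton_of_forall_eq 0 fun g => (cancel_epi eU.inv).1 (by
        rw [comp_zero]
        exact hom_eq_zero_of_torsion (I.map φ) (isDerivedComplete_shift hYc r) (hB.shift (I.map φ) r)
          (fun ξ => hom_single_eq_zero (I.map φ) c hc W r hr ξ) _))
    exact @Equiv.subsingleton _ _
      (((DerivedCategory.homologyFunctor (ModuleCat.{u} B) 0).shiftIso r 0 r (add_zero r)).app Y).symm.toLinearEquiv.toEquiv h1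
  have hA0 : ∀ g : Dual.inD A A ⟶ ((DRing.restrictD φ).obj Y)⟦r⟧, g = 0 := by
    obtain ⟨e⟩ := exists_homUnitLEquiv (((DRing.restrictD φ).obj Y)⟦r⟧) 0 0 (add_zero 0)
    let eU : (DTen.unit A)⟦(0 : ℤ)⟧ ≅ Dual.inD A A := (shiftFunctorZero (Dual.D A) ℤ).app _ ≪≫
      ((DerivedCategory.singleFunctorIsoCompQ (ModuleCat.{u} A) 0).app (ModuleCat.of A A)).symm
    haveI : Subsingleton (Dual.HD A (((DRing.restrictD φ).obj Y)⟦r⟧) 0) := @Equiv.subsingleton _ _
      (((DerivedCategory.homologyFunctor (ModuleCat.{u} A) 0).shiftIso r 0 r (add_zero r)).app _).toLinearEquiv.toEquiv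
      (subsingleton_HD_restrict φ Y r hzero)
    intro g
    rw [← cancel_epi eU.hom, comp_zero]
    exact e.toEquiv.subsingleton.elim _ _
  let c₀ : (DRing.restrictD φ).obj X ≅
      (DerivedCategory.singleFunctor (ModuleCat.{u} A) 0).obj ((ModuleCat.restrictScalars.{u} φ).obj W) :=
    ((ModuleCat.restrictScalars.{u} φ).mapDerivedCategorySingleFunctor 0).app W
  refine (cancel_mono (c₀.inv⟦r⟧')).1 ?_
  rw [zero_comp]
  exact torsion_hom_eq_zero I
    (isDerivedComplete_shift ((Groth.Agent.H9Misc.DRingTel.isDerivedComplete_map_iff φ I Y).1 hYc) r)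
    (hA.shift I r) hA0 _

end Groth.Agent.GrLib8.CplKill
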