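import Groth.Agent.GrLib8.CplKill.Induct
import Groth.Agent.GrLib8.CplKill.Restrict
import Groth.Agent.GrLib8.CplKill.DualVanish
import Groth.Agent.GrLib8.CplKill.BoundedInd
import Groth.Agent.GrLib8.ProZ.Local
import Groth.Agent.LC.AdjDepth
import Groth.Agent.KFlatLib.Ring.HasRHom
import Groth.Agent.S13497
import Groth.Agent.S0328

/-!
# Completeness of derived torsion in a range
-/

set_option autoImplicit false
set_option linter.style.haveILetI false
set_option backward.isDefEq.respectTransparency false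

universe u

open CategoryTheory CategoryTheory.Limits Pretriangulated DerivedCategory

attribute [local instance] HasDerivedCategory.standard

namespace Groth.Agent.GrLib8.CplKill

open Groth.Agent.KFlatLib

variable {A : Type u} [CommRing A] [IsNoetherianRing A] (I J : Ideal A) (T : Set (PrimeSpectrum A))

/-- The hypothesis of the bootstrap for a general support. -/
def GoodT (d s : ℕ) (M : Type u) [AddCommGroup M] [Module A M] : Prop :=
  AlgLC.H4 I J T s d M ∧ ∀ p : PrimeSpectrum A, ¬ I ≤ p.asIdeal → ¬ J ≤ p.asIdeal → p ∈ T →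
    (s : ℕ∞) < LocCoh.depth (Localization.AtPrime p.asIdeal) (LocalizedModule p.asIdeal.primeCompl M)

variable {I J T}

theorem goodT_quot {d s : ℕ} {M : Type u} [AddCommGroup M] [Module A M] [Module.Finite A M]
    (hT : AlgLC.IsTrace I J T) (h : GoodT I J T d s M) : GoodT I J T d s (M ⧸ DRing.torsionSub (J * I) M) := by
  have key : ∀ p : PrimeSpectrum A, ¬ I ≤ p.asIdeal → ¬ J ≤ p.asIdeal →
      LocCoh.depth (Localization.AtPrime p.asIdeal) (LocalizedModule p.asIdeal.primeCompl (M ⧸ DRing.torsionSub (J * I) M)) =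
        LocCoh.depth (Localization.AtPrime p.asIdeal) (LocalizedModule p.asIdeal.primeCompl M) := fun p h1 h2 =>
    LC.depth_localized_torsionQuot M (J * I) p.asIdeal fun hle => (p.isPrime.mul_le.1 hle).elim h2 h1
  refine ⟨fun p h1 h2 q => ?_, fun p h1 h2 h3 => ?_⟩
  · rw [key p h1 fun hJ => h2 ((hT p).2 fun r hr _ => hJ.trans hr)]
    exact h.1 p h1 h2 q
  · rw [key p h1 h2]
    exact h.2 p h1 h2 h3

omit [IsNoetherianRing A] in
theorem depth_quot_notMem' (M : Type u) [AddCommGroup M] [Module A M] (p : Ideal A) [p.IsPrime] {x : A} (hx : x ∉ p) :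
    LocCoh.depth (Localization.AtPrime p) (LocalizedModule p.primeCompl (QuotSMulTop x M)) = ⊤ := by
  haveI : Subsingleton (LocalizedModule p.primeCompl (QuotSMulTop x M)) := LocalizedModule.subsingleton_iff.2 fun m => by
    obtain ⟨y, rfl⟩ := Submodule.Quotient.mk_surjective _ m
    exact ⟨x, hx, by
      rw [← Submodule.Quotient.mk_smul, Submodule.Quotient.mk_eq_zero]
      exact Submodule.smul_mem_pointwise_smul y x ⊤ trivial⟩
  rw [LocCoh.depth, LocCoh.idealDepth, if_pos (Subsingleton.elim _ _)]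

theorem goodT_div {d s : ℕ} {M : Type u} [AddCommGroup M] [Module A M] [Module.Finite A M] {x : A}
    (hreg : IsSMulRegular M x) (h : GoodT I J T d (s + 1) M) : GoodT I J T d s (QuotSMulTop x M) := by
  refine ⟨fun p h1 h2 q h5 h6 h7 => ?_, fun p h1 h2 h3 => ?_⟩
  · by_cases hx : x ∈ p.asIdeal
    · have hd := LC.depth_localized_quot_add_one M p.asIdeal hx hreg
      have h4 := h.1 p h1 h2 q h5 h6 h7
      rw [← hd] at h4
      generalize Formal2.dimBetween A p.asIdeal q.asIdeal = e at h4 ⊢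
      generalize LocCoh.depth (Localization.AtPrime p.asIdeal) (LocalizedModule p.asIdeal.primeCompl (QuotSMulTop x M)) = δ at h4 ⊢
      induction δ using ENat.recTopCoe with
      | top => exact Or.inl le_top
      | coe δ =>
        induction e with
        | bot =>
          rcases h4 with h5 | h5
          · exact Or.inl (by exact_mod_cast (show s ≤ δ by have : s + 1 ≤ δ + 1 := (by exact_mod_cast h5); omega))
          · simp at h5
        | coe e =>
          induction e using ENat.recTopCoe with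
          | top =>
            refine Or.inr ?_
            rw [← WithBot.coe_add, add_top]
            exact WithBot.coe_lt_coe.2 (ENat.natCast_lt_top _)
          | coe e =>
            rcases h4 with h5 | h5
            · exact Or.inl (by exact_mod_cast (show s ≤ δ by have : s + 1 ≤ δ + 1 := (by exact_mod_cast h5); omega))
            · exact Or.inr (by exact_mod_cast (show d + s < δ + e by
                have : d + (s + 1) < δ + 1 + e := (by exact_mod_cast h5)
                omega))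
    · exact Or.inl (le_of_le_of_eq le_top (depth_quot_notMem' M p.asIdeal hx).symm)
  · by_cases hx : x ∈ p.asIdeal
    · have h4 := h.2 p h1 h2 h3
      rw [← LC.depth_localized_quot_add_one M p.asIdeal hx hreg, Nat.cast_add, Nat.cast_one] at h4
      exact lt_of_add_lt_add_right h4
    · rw [depth_quot_notMem' M p.asIdeal hx]
      exact ENat.natCast_lt_top s

variable [DRing.HasRgammaI I] [DRing.HasRgammaI J]

omit [DRing.HasRgammaI I] in
theorem rgamma_map_zero (X : Dual.D A) : (DRing.RgammaI J).map (0 : X ⟶ X) = 0 := by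
  have h := rgamma_map_smul J (0 : A) X
  rwa [zero_smul, zero_smul] at h

omit [DRing.HasRgammaI I] in
theorem smul_id_rgamma (X : Dual.D A) (x : A) (h : x • 𝟙 X = 0) : x • 𝟙 ((DRing.RgammaI J).obj X) = 0 := by
  rw [← rgamma_map_smul J x X, h, rgamma_map_zero]

omit [DRing.HasRgammaI I] in
/-- Derived torsion commutes with shifts. -/
theorem nonempty_rgamma_shift (X : Dual.D A) (k : ℤ) :
    Nonempty ((DRing.RgammaI J).obj (X⟦k⟧) ≅ ((DRing.RgammaI J).obj X)⟦k⟧) := by
  obtain ⟨e, -⟩ := exists_iso_of_tb J (((DRing.RgammaIε J).app X)⟦k⟧')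
    (fun q => tors_shift J (isPowerTorsion_hd_rgamma J X) k q) ((tb_rgammaε J X).shift J k)
  exact ⟨e⟩

variable [DRing.HasDerivedCompletion I]

/-- Modules in negative degrees receive nothing. -/
theorem hom_rgamma_neg (W : Type u) [AddCommGroup W] [Module A W] [Module.Finite A W] (r : ℤ) (hr : r < 0)
    (φ : (DRing.RgammaI I).obj (Dual.inD A A) ⟶ ((DRing.RgammaI J).obj (Dual.inD A W))⟦r⟧) : φ = 0 := by
  obtain ⟨ψ, rfl⟩ := (inv_neg I J (ModuleCat.of A W) r hr).2 φ
  haveI : ((DRing.RgammaI J).obj (Dual.inD A W)).IsGE 0 := isGE_rgamma J (ModuleCat.of A W)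
  haveI : (((DRing.RgammaI J).obj (Dual.inD A W))⟦r⟧).IsGE (-r) := TStructure.t.isGE_shift _ 0 r (-r) (by omega)
  haveI : (Dual.inD A A).IsLE 0 := inferInstanceAs (((DerivedCategory.singleFunctor (ModuleCat.{u} A) 0).obj _).IsLE 0)
  show _ ≫ ψ = 0
  rw [TStructure.t.zero ψ 0 (-r) (by omega), comp_zero]

/-- Modules torsion free off the trace receive nothing in degree zero. -/
theorem hom_rgamma_torsionFree [IsAdicComplete I A] (hT : AlgLC.IsTrace I J T) (W : Type u) [AddCommGroup W]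
    [Module A W] [Module.Finite A W] (Q : PrimeSpectrum A) (hQ : Q ∉ T)
    (hreg : ∀ x : A, x ∉ Q.asIdeal → IsSMulRegular W x)
    (φ : (DRing.RgammaI I).obj (Dual.inD A A) ⟶ (DRing.RgammaI J).obj (Dual.inD A W)) : φ = 0 := by
  obtain ⟨hinj, hrange⟩ := Groth.Agent.S13497.result A I J W
  have hH : ∀ z : Dual.HD A ((DRing.derivedCompletion I).obj ((DRing.RgammaI J).obj (Dual.inD A W))).obj 0, z = 0 := by
    intro z
    obtain ⟨w, ⟨J', hJ', hrad, n, hn⟩, hwz⟩ := hrange.subset (Set.mem_range_self z)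
    have hw : w = 0 := by
      by_cases hle : J' ≤ Q.asIdeal
      · refine absurd ((hT Q).2 fun r hr hI => ?_) hQ
        exact hrad.trans (r.isPrime.radical_le_iff.2 (sup_le (hle.trans hr) hI))
      · obtain ⟨x, hxJ, hxQ⟩ := SetLike.not_le_iff_exists.1 hle
        exact ((hreg x hxQ).pow n) ((hn _ (Ideal.pow_mem_pow hxJ n)).trans (smul_zero _).symm)
    refine hinj ?_
    rw [← hwz, hw]
    exact (congrArg _ (map_zero _)).trans ((map_zero _).trans (map_zero _).symm)
  refine torsion_hom_eq_zero I ((DRing.derivedCompletion I).obj _).property (tb_toCompletion I _) (fun ψ => ?_) φ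
  let C := ((DRing.derivedCompletion I).obj ((DRing.RgammaI J).obj (Dual.inD A W))).obj
  obtain ⟨e⟩ := exists_homUnitLEquiv C 0 0 (add_zero 0)
  let eU : (DTen.unit A)⟦(0 : ℤ)⟧ ≅ Dual.inD A A := (shiftFunctorZero (Dual.D A) ℤ).app _ ≪≫
    ((DerivedCategory.singleFunctorIsoCompQ (ModuleCat.{u} A) 0).app (ModuleCat.of A A)).symm
  rw [← cancel_epi eU.hom, comp_zero]
  exact e.injective ((hH _).trans (map_zero e).symm)

/-- Bounded objects above the degree receive nothing. -/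
theorem hom_rgamma_bounded (X : Dual.D A) (a b t : ℤ) [X.IsGE a] [X.IsLE b]
    (hfin : ∀ i, Module.Finite A (Dual.HD A X i)) (ht : t ≤ a)
    (hbot : ∀ (W : Type u) [AddCommGroup W] [Module A W] [Module.Finite A W], t = a →
      Nonempty (Dual.HD A X a ≃ₗ[A] W) → ∀ φ : (DRing.RgammaI I).obj (Dual.inD A A) ⟶ (DRing.RgammaI J).obj (Dual.inD A W), φ = 0)
    (φ : (DRing.RgammaI I).obj (Dual.inD A A) ⟶ ((DRing.RgammaI J).obj X)⟦t⟧) : φ = 0 := by
  refine bounded_induction (fun Y => ∀ φ : (DRing.RgammaI I).obj (Dual.inD A A) ⟶ ((DRing.RgammaI J).obj Y)⟦t⟧, φ = 0)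
    (fun Y hY φ => ?_) (fun U hU h₁ h₃ φ => ?_) b (b + 1 - a).toNat X a inferInstance inferInstance
    (by omega) hfin (fun c W _ _ _ hc hW φ => ?_) φ
  · have h0 : (1 : A) • 𝟙 ((DRing.RgammaI J).obj Y) = 0 := smul_id_rgamma Y 1 (hY.eq_of_src _ _)
    rw [one_smul] at h0
    exact (((IsZero.iff_id_eq_zero _).2 h0 : IsZero _) |> (shiftFunctor (Dual.D A) t).map_isZero).eq_of_tgt _ _
  · obtain ⟨v', w', hT'⟩ := exists_triangle_rgamma J (u := U.mor₁) (v := U.mor₂) (w := U.mor₃) hU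
    have hT'' := Triangle.shift_distinguished _ hT' t
    obtain ⟨k, hk⟩ := Triangle.coyoneda_exact₂ _ hT'' φ (h₃ _)
    rw [hk, h₁ k]
    exact zero_comp
  · obtain ⟨e₁⟩ := nonempty_rgamma_shift (J := J) (Dual.inD A W) (-c)
    let e₂ : ((DRing.RgammaI J).obj ((Dual.inD A W)⟦-c⟧))⟦t⟧ ≅ ((DRing.RgammaI J).obj (Dual.inD A W))⟦t - c⟧ :=
      (shiftFunctor (Dual.D A) t).mapIso e₁ ≪≫
        ((shiftFunctorAdd' (Dual.D A) (-c) t (t - c) (by omega)).app _).symm
    rcases lt_or_ge (t - c) 0 with h | h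
    · rw [← cancel_mono e₂.hom, zero_comp]
      exact hom_rgamma_neg W (t - c) h _
    · obtain rfl : c = a := by omega
      let e₃ : ((DRing.RgammaI J).obj ((Dual.inD A W)⟦-c⟧))⟦t⟧ ≅ (DRing.RgammaI J).obj (Dual.inD A W) :=
        (shiftFunctor (Dual.D A) t).mapIso e₁ ≪≫ (shiftFunctorCompIsoId (Dual.D A) (-c) t (by omega)).app _
      rw [← cancel_mono e₃.hom, zero_comp]
      exact hbot W (by omega) hW _

variable [DTen.HasLTen A] [DTen.HasRHom A] {ω : Dual.D A} {n : PrimeSpectrum A → ℤ}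

/-- The pieces of the dual receive nothing. -/
theorem hom_piece_eq_zero [IsAdicComplete I A] (hω : Dual.IsDualizing A ω) (hn : IsExtDegree ω n)
    (hcov : ∀ p q : PrimeSpectrum A, p ⋖ q → n q = n p + 1) (hmono : StrictMono n)
    (hT : AlgLC.IsTrace I J T) {d s : ℕ} (hcd : LocCoh.CdLE A I d) {M : Type u} [AddCommGroup M] [Module A M]
    (hG : GoodT I J T d s M) (Q : PrimeSpectrum A) (hQI : ¬ I ≤ Q.asIdeal) (hQJ : ¬ J ≤ Q.asIdeal) {δ : ℕ}
    (hδ : LocCoh.depth (Localization.AtPrime Q.asIdeal) (LocalizedModule Q.asIdeal.primeCompl M) = δ)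
    (t : ℤ) (ht : t + δ ≤ n Q + s)
    (φ : (DRing.RgammaI I).obj (Dual.inD A A) ⟶
      ((DRing.RgammaI J).obj ((DTen.RHomR A (Dual.inD A (A ⧸ Q.asIdeal))).obj ω))⟦t⟧) : φ = 0 := by
  let X := (DTen.RHomR A (Dual.inD A (A ⧸ Q.asIdeal))).obj ω
  let L := (DRing.RgammaI I).obj (Dual.inD A A)
  by_cases hhigh : Q ∉ T ∧ δ < s
  · obtain ⟨hQT, hlt⟩ := hhigh
    haveI := hasRgammaI (J ⊔ I)
    have hN : ∀ q : PrimeSpectrum A, Q ≤ q → J ⊔ I ≤ q.asIdeal → t + d + 1 ≤ n q := by
      intro q hQq hq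
      obtain ⟨e, he, hen⟩ := ProZ.exists_dim_eq hcov hmono Q q hQq
      rcases hG.1 Q hQI hQT q hQq (le_sup_left.trans hq) (le_sup_right.trans hq) with h | h
      · rw [hδ, Nat.cast_le] at h
        omega
      · rw [hδ, he] at h
        have : d + s < δ + e := by exact_mod_cast h
        omega
    haveI := isGE_rgamma_RHom hn hmono Q (J ⊔ I) (t + d + 1) hN
    obtain ⟨eZ⟩ := Groth.Agent.S1816.result A J I X
    haveI : L.IsLE d := isLE_rgamma_unit I d hcd
    haveI : (((DRing.RgammaI (J ⊔ I)).obj X)⟦t⟧).IsGE (d + 1) :=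
      TStructure.t.isGE_shift _ (t + d + 1) t (d + 1) (by omega)
    obtain ⟨ψ₀, rfl⟩ := (((tb_rgammaε I ((DRing.RgammaI J).obj X)).shift I t) L
      (isPowerTorsion_hd_rgamma I (Dual.inD A A))).2 φ
    show ψ₀ ≫ _ = 0
    rw [show ψ₀ = 0 from (cancel_mono (eZ.hom⟦t⟧')).1 (by
      rw [zero_comp]; exact TStructure.t.zero _ (d : ℤ) (d + 1) (by omega)), zero_comp]
  · have hle : t ≤ n Q ∧ (t = n Q → Q ∉ T) := by
      by_cases hQT : Q ∈ T
      · have h := hG.2 Q hQI hQJ hQT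
        rw [hδ, Nat.cast_lt] at h
        exact ⟨by omega, fun h' => absurd h' (by omega)⟩
      · exact ⟨by have : s ≤ δ := not_lt.1 fun h => hhigh ⟨hQT, h⟩; omega, fun _ => hQT⟩
    obtain ⟨a, b, hab, ha, hb⟩ := exists_bounds_of_isDualizing hω
    haveI := ha
    haveI : (Dual.inD A (A ⧸ Q.asIdeal)).IsGE 0 :=
      inferInstanceAs (((DerivedCategory.singleFunctor (ModuleCat.{u} A) 0).obj _).IsGE 0)
    haveI : X.IsGE (n Q) := isGE_RHom hn (A ⧸ Q.asIdeal) (n Q) fun r hr => hmono.monotone (support_quot.1 hr)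
    haveI : X.IsLE (b - 0) := isLE_RHomR _ ω 0 a b hab
    refine hom_rgamma_bounded X (n Q) (b - 0) t
      (fun i => finite_hd_RHom_of_finite_hd (DualizingCd.finite_hd_inD (A ⧸ Q.asIdeal)) hω.finite_cohomology ⟨a, b, hab⟩ i)
      hle.1 (fun W _ _ _ htQ ⟨eW⟩ => hom_rgamma_torsionFree hT W Q (hle.2 htQ) fun x hx => ?_) φ
    obtain ⟨e⟩ := exists_hdRHomLEquiv (Dual.inD A (A ⧸ Q.asIdeal)) ω (n Q)
    obtain ⟨e'⟩ := exists_shiftHomLEquiv (Dual.inD A (A ⧸ Q.asIdeal)) ω (n Q)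
    let f := eW.symm.trans (e.trans e'.symm)
    refine isSMulRegular_iff_right_eq_zero_of_smul.2 fun w hw => f.injective ?_
    rw [map_zero]
    exact eq_zero_of_smul_bottom hn hmono Q hx (f w) (by rw [← map_smul, hw, map_zero])

/-- A multiplier off a prime killing the torsion maps in one degree. -/
theorem exists_killT_point [IsAdicComplete I A] (hω : Dual.IsDualizing A ω) (hn : IsExtDegree ω n)
    (hcov : ∀ p q : PrimeSpectrum A, p ⋖ q → n q = n p + 1) (hmono : StrictMono n)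
    (hT : AlgLC.IsTrace I J T) {d s : ℕ} (hcd : LocCoh.CdLE A I d) (M : Type u) [AddCommGroup M] [Module A M]
    [Module.Finite A M] (hG : GoodT I J T d s M) (p : PrimeSpectrum A) (hp : ¬ J * I ≤ p.asIdeal) (i : ℕ) (hi : i ≤ s) :
    ∃ g : A, g ∉ p.asIdeal ∧ ∀ ψ : (DRing.RgammaI I).obj (Dual.inD A A) ⟶
      ((DRing.RgammaI J).obj (Dual.inD A M))⟦(i : ℤ)⟧, g • ψ = 0 := by
  let L := (DRing.RgammaI I).obj (Dual.inD A A)
  let F : Dual.D A → Dual.D A := fun Y => (DTen.RHomR A Y).obj ω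
  let G : Dual.D A → Prop := fun Y => ∃ g : A, g ∉ p.asIdeal ∧
    ∀ ψ : L ⟶ ((DRing.RgammaI J).obj (F Y))⟦(i : ℤ)⟧, g • ψ = 0
  have h1p : (1 : A) ∉ p.asIdeal := fun h1 => p.isPrime.ne_top ((Ideal.eq_top_iff_one _).2 h1)
  have hiso : ∀ {Y Y' : Dual.D A}, (Y ≅ Y') → G Y → G Y' := by
    intro Y Y' e ⟨g, hg, hk⟩
    let e' : ((DRing.RgammaI J).obj (F Y'))⟦(i : ℤ)⟧ ≅ ((DRing.RgammaI J).obj (F Y))⟦(i : ℤ)⟧ :=
      (shiftFunctor (Dual.D A) (i : ℤ)).mapIso ((DRing.RgammaI J).mapIso (((DTen.RHom A).mapIso e.op).app ω))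
    refine ⟨g, hg, fun ψ => ?_⟩
    rw [← cancel_mono e'.hom, zero_comp, Linear.smul_comp]
    exact hk _
  have hmid : ∀ U ∈ distTriang (Dual.D A), G U.obj₁ → G U.obj₃ → G U.obj₂ := by
    intro U hU ⟨g₁, hg₁, hk₁⟩ ⟨g₃, hg₃, hk₃⟩
    obtain ⟨c, hc⟩ := exists_triangle_RHomMap U hU ω
    obtain ⟨v', w', hT'⟩ := exists_triangle_rgamma J hc
    have hT'' := Triangle.shift_distinguished _ hT' (i : ℤ)
    refine ⟨g₃ * g₁, fun hm => (p.isPrime.mem_or_mem hm).elim hg₃ hg₁, fun ψ => ?_⟩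
    obtain ⟨k, hk⟩ := Triangle.coyoneda_exact₂ _ hT'' (g₁ • ψ) (by rw [Linear.smul_comp]; exact hk₁ _)
    rw [mul_smul, hk]
    exact (Linear.smul_comp _ _ _ _ _ _).symm.trans ((congrArg (· ≫ _) (hk₃ k)).trans zero_comp)
  have hmodzero : ∀ (N : Type u) [AddCommGroup N] [Module A N] [Subsingleton N] (c : ℤ), G ((Dual.inD A N)⟦c⟧) := by
    intro N _ _ _ c
    obtain ⟨e⟩ := nonempty_RHom_shift (Dual.inD A N) ω c
    have h0 : (1 : A) • 𝟙 (F (Dual.inD A N)) = 0 := smul_id_RHom N ω 1 fun w => Subsingleton.elim _ _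
    rw [one_smul] at h0
    have hz : IsZero (F ((Dual.inD A N)⟦c⟧)) :=
      ((shiftFunctor (Dual.D A) (-c)).map_isZero ((IsZero.iff_id_eq_zero _).2 h0)).of_iso e
    refine ⟨1, h1p, fun ψ => ?_⟩
    have h1 := smul_id_rgamma (J := J) (F ((Dual.inD A N)⟦c⟧)) 1 (hz.eq_of_src _ _)
    rw [one_smul] at h1
    exact ((shiftFunctor (Dual.D A) (i : ℤ)).map_isZero ((IsZero.iff_id_eq_zero _).2 h1)).eq_of_tgt _ _
  have hzero : ∀ Y, IsZero Y → G Y := by
    intro Y hY
    exact hiso (IsZero.iso ((shiftFunctor (Dual.D A) (0 : ℤ)).map_isZero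
      ((DerivedCategory.singleFunctor (ModuleCat.{u} A) 0).map_isZero
        (ModuleCat.isZero_of_subsingleton (ModuleCat.of A PUnit.{u + 1})))) hY) (hmodzero PUnit.{u + 1} 0)
  have hquot : ∀ (c : ℤ) (Q : PrimeSpectrum A), Q ∈ Module.support A (Dual.inD A M ⟶ ω⟦c⟧) →
      G ((Dual.inD A (A ⧸ Q.asIdeal))⟦-c⟧) := by
    intro c Q hQ
    obtain ⟨e⟩ := nonempty_RHom_shift (Dual.inD A (A ⧸ Q.asIdeal)) ω (-c)
    obtain ⟨e'⟩ := nonempty_rgamma_shift (J := J) (F (Dual.inD A (A ⧸ Q.asIdeal))) (- -c)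
    let e₂ : ((DRing.RgammaI J).obj (F ((Dual.inD A (A ⧸ Q.asIdeal))⟦-c⟧)))⟦(i : ℤ)⟧ ≅
        ((DRing.RgammaI J).obj (F (Dual.inD A (A ⧸ Q.asIdeal))))⟦(i : ℤ) + c⟧ :=
      (shiftFunctor (Dual.D A) (i : ℤ)).mapIso ((DRing.RgammaI J).mapIso e ≪≫ e') ≪≫
        ((shiftFunctorAdd' (Dual.D A) (- -c) (i : ℤ) ((i : ℤ) + c) (by omega)).app _).symm
    by_cases hQp : Q.asIdeal ≤ p.asIdeal
    · obtain ⟨δ, hδ, hcδ⟩ := ProZ.numbers hω hn c hQ
      have hQI : ¬ I ≤ Q.asIdeal := fun h => hp (Ideal.mul_le_right.trans (h.trans hQp))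
      have hQJ : ¬ J ≤ Q.asIdeal := fun h => hp (Ideal.mul_le_left.trans (h.trans hQp))
      refine ⟨1, h1p, fun ψ => ?_⟩
      rw [one_smul, ← cancel_mono e₂.hom, zero_comp]
      exact hom_piece_eq_zero hω hn hcov hmono hT hcd hG Q hQI hQJ hδ _ (by omega) _
    · obtain ⟨x, hxQ, hxp⟩ := SetLike.not_le_iff_exists.1 hQp
      refine ⟨x, hxp, fun ψ => ?_⟩
      rw [← cancel_mono e₂.hom, zero_comp, Linear.smul_comp]
      have h0 : x • 𝟙 (((DRing.RgammaI J).obj (F (Dual.inD A (A ⧸ Q.asIdeal))))⟦(i : ℤ) + c⟧) = 0 := by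
        rw [← CategoryTheory.Functor.map_id, ← Functor.map_smul, smul_id_rgamma _ x (smul_id_RHom _ ω x fun w => by
          obtain ⟨z, rfl⟩ := Submodule.Quotient.mk_surjective _ w
          rw [← Submodule.Quotient.mk_smul, Submodule.Quotient.mk_eq_zero]
          exact Q.asIdeal.mul_mem_right z hxQ), Functor.map_zero]
      rw [← Category.comp_id (ψ ≫ e₂.hom), ← Linear.comp_smul, h0, comp_zero]
  have hmod : ∀ (c : ℤ) (N : Type u) [AddCommGroup N] [Module A N] [Module.Finite A N],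
      Module.support A N ⊆ Module.support A (Dual.inD A M ⟶ ω⟦c⟧) → G ((Dual.inD A N)⟦-c⟧) := by
    intro c N _ _ _ hN
    refine IsNoetherianRing.induction_on_isQuotientEquivQuotientPrime A (M := N) inferInstance
      (motive := fun N _ _ _ => Module.support A N ⊆ Module.support A (Dual.inD A M ⟶ ω⟦c⟧) →
        G ((Dual.inD A N)⟦-c⟧)) ?_ ?_ ?_ hN
    · intro N _ _ _ _ _
      exact hmodzero N (-c)
    · intro N _ _ _ Q e hN
      exact hiso ((shiftFunctor (Dual.D A) (-c)).mapIso ((DerivedCategory.singleFunctor (ModuleCat.{u} A) 0).mapIso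
        e.toModuleIso.symm)) (hquot c Q (hN (by rw [e.support_eq]; exact support_quot.2 le_rfl)))
    · intro N₁ _ _ _ N₂ _ _ _ N₃ _ _ _ f g hf hg hfg h₁ h₃ hN
      let S : ShortComplex (ModuleCat.{u} A) := ShortComplex.mk (ModuleCat.ofHom f) (ModuleCat.ofHom g)
        (ModuleCat.hom_ext hfg.linearMap_comp_eq_zero)
      have hS : S.ShortExact :=
        { exact := (ShortComplex.ShortExact.moduleCat_exact_iff_function_exact _).2 hfg
          mono_f := (ModuleCat.mono_iff_injective _).2 hf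
          epi_g := (ModuleCat.epi_iff_surjective _).2 hg }
      exact hmid _ (Triangle.shift_distinguished _ hS.singleTriangle_distinguished (-c))
        (h₁ fun q hq => hN (Module.support_subset_of_injective f hf hq))
        (h₃ fun q hq => hN (Module.support_subset_of_surjective g hg hq))
  obtain ⟨a, b, hab, ha, hb⟩ := exists_bounds_of_isDualizing hω
  haveI := ha
  haveI : (Dual.inD A M).IsLE 0 := inferInstanceAs (((DerivedCategory.singleFunctor (ModuleCat.{u} A) 0).obj _).IsLE 0)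
  haveI : (Dual.inD A M).IsGE 0 := inferInstanceAs (((DerivedCategory.singleFunctor (ModuleCat.{u} A) 0).obj _).IsGE 0)
  let E := (DTen.RHomR A (Dual.inD A M)).obj ω
  haveI : E.IsGE (a - 0) := isGE_RHomR _ ω 0 a
  haveI : E.IsLE (b - 0) := isLE_RHomR _ ω 0 a b hab
  obtain ⟨g, hg, hk⟩ : G E := by
    refine bounded_induction G hzero hmid (b - 0) (b - 0 + 1 - (a - 0)).toNat E (a - 0) inferInstance inferInstance
      (by omega) (fun j => finite_hd_RHom_of_finite_hd (DualizingCd.finite_hd_inD M) hω.finite_cohomology ⟨a, b, hab⟩ j)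
      fun c N _ _ _ _ ⟨eN⟩ => hmod c N ?_
    obtain ⟨e⟩ := exists_hdRHomLEquiv (Dual.inD A M) ω c
    obtain ⟨e'⟩ := exists_shiftHomLEquiv (Dual.inD A M) ω c
    rw [(eN.symm.trans (e.trans e'.symm)).support_eq]
  obtain ⟨eM⟩ := nonempty_biduality hω (fun j => DualizingCd.finite_hd_inD M j)
  refine ⟨g, hg, fun ψ => ?_⟩
  let e₁ := (shiftFunctor (Dual.D A) (i : ℤ)).mapIso ((DRing.RgammaI J).mapIso eM.symm)
  rw [← cancel_mono e₁.hom, zero_comp, Linear.smul_comp]
  exact hk _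

omit [DTen.HasLTen A] [DTen.HasRHom A] in
/-- A power of the product ideal kills. -/
theorem exists_killT [IsAdicComplete I A] (hA : ∃ ω : Dual.D A, Dual.IsDualizing A ω) (hT : AlgLC.IsTrace I J T)
    {d s : ℕ} (hcd : LocCoh.CdLE A I d) (M : Type u) [AddCommGroup M] [Module A M] [Module.Finite A M]
    (hG : GoodT I J T d s M) :
    ∃ c : ℕ, ∀ i : ℤ, 0 ≤ i → i ≤ s → ∀ x ∈ (J * I) ^ c, ∀ ψ : (DRing.RgammaI I).obj (Dual.inD A A) ⟶
      ((DRing.RgammaI J).obj (Dual.inD A M))⟦i⟧, x • ψ = 0 := by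
  haveI := hasLTen (A := A)
  haveI := hasRHom (A := A)
  obtain ⟨ω, hω⟩ := hA
  obtain ⟨n, hn, hcov, hmono, -⟩ := KFlatLib.exists_extDegree hω
  let V : Ideal A :=
    { carrier := {x | ∀ i : ℕ, i ≤ s → ∀ ψ : (DRing.RgammaI I).obj (Dual.inD A A) ⟶
        ((DRing.RgammaI J).obj (Dual.inD A M))⟦(i : ℤ)⟧, x • ψ = 0}
      zero_mem' := fun i _ ψ => zero_smul A ψ
      add_mem' := fun hx hy i hi ψ => by rw [add_smul, hx i hi, hy i hi, add_zero]
      smul_mem' := fun r x hx i hi ψ => by rw [smul_eq_mul, mul_smul, hx i hi, smul_zero] }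
  have hrad : J * I ≤ V.radical := by
    rw [Ideal.radical_eq_sInf]
    refine le_sInf fun P hP => ?_
    by_contra hnle
    choose g hg hk using fun i : Fin (s + 1) =>
      exists_killT_point hω hn hcov hmono hT hcd M hG ⟨P, hP.2⟩ hnle i (Nat.lt_succ_iff.1 i.2)
    have hmem : ∏ i, g i ∈ V := fun i hi ψ => by
      obtain ⟨r, hr⟩ := Finset.dvd_prod_of_mem g (Finset.mem_univ (⟨i, Nat.lt_succ_iff.2 hi⟩ : Fin (s + 1)))
      rw [hr, mul_comm, mul_smul]
      exact (congrArg (r • ·) (hk ⟨i, Nat.lt_succ_iff.2 hi⟩ ψ)).trans (smul_zero r)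
    obtain ⟨j, -, hj⟩ := (hP.2.prod_mem_iff).1 (hP.1 hmem)
    exact hg j hj
  obtain ⟨c, hc⟩ := Ideal.exists_pow_le_of_le_radical_of_fg hrad (IsNoetherian.noetherian _)
  refine ⟨c, fun i hi0 hi x hx ψ => ?_⟩
  obtain ⟨i', rfl⟩ : ∃ i' : ℕ, (i' : ℤ) = i := ⟨i.toNat, by omega⟩
  exact hc hx i' (by exact_mod_cast hi) ψ

omit [DTen.HasLTen A] [DTen.HasRHom A] in
/-- The main bootstrap. -/
theorem bijective_of_goodT [IsAdicComplete I A] (hA : ∃ ω : Dual.D A, Dual.IsDualizing A ω)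
    (hT : AlgLC.IsTrace I J T) {d s : ℕ} (hcd : LocCoh.CdLE A I d) (M : Type u) [AddCommGroup M] [Module A M]
    [Module.Finite A M] (hG : GoodT I J T d s M) (i : ℤ) (hi : i ≤ s) :
    Function.Bijective ((DerivedCategory.homologyFunctor (ModuleCat.{u} A) i).map
      (DRing.toDerivedCompletion I ((DRing.RgammaI J).obj (Dual.inD A M)))).hom :=
  bijective_homology I _ i <|
    inv_of_kill I J (fun s N => GoodT I J T d s N) (fun _ N hN h => by haveI := hN; exact goodT_quot hT h)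
      (fun _ N x hN _ hx h => by haveI := hN; exact goodT_div hx h)
      (fun _ N hN h => by haveI := hN; exact exists_killT hA hT hcd N h)
      s (ModuleCat.of A M) inferInstance hG i hi

end Groth.Agent.GrLib8.CplKill
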