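import Groth.Agent.LC.HlvtMain
import Groth.Agent.CplFib6.CplFinite
import Groth.Agent.FormalFib6.Cplt
import Mathlib.RingTheory.AdicCompletion.Functoriality
import Mathlib.RingTheory.AdicCompletion.Noetherian

/-!
# A dimension drop for images of complete rings
-/

set_option autoImplicit false
set_option linter.style.haveILetI false

universe u

open IsLocalRing

namespace Groth.Agent.GrLib8.CplKill

/-- Images of complete rings satisfy the dimension drop. -/
theorem cdLE_of_image {A B : Type u} [CommRing A] [CommRing B] [IsDomain B] [IsLocalRing B] [IsNoetherianRing B]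
    (I : Ideal A) [IsAdicComplete I A] (f : A →+* B) (hf : Function.Surjective f) {e : ℕ}
    (he : ringKrullDim B = ((e + 1 : ℕ) : WithBot ℕ∞)) (r : Ideal B) [r.IsPrime] (hr : I.map f ≤ r)
    (hrm : r ≠ maximalIdeal B) : LocCoh.CdLE B (I.map f) e := by
  refine LC.cdLE_of_ring (I.map f) fun i hi => ?_
  rcases (show e + 1 ≤ i by omega).eq_or_lt with rfl | hlt
  · let B' := AdicCompletion (maximalIdeal B) B
    haveI : IsNoetherianRing B' := FormalFib6.isNoetherianRing_adicCompletion B (maximalIdeal B)
    refine LC.subsingleton_H_hlvt (I.map f) he fun P hP _ => ?_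
    haveI := hP.1.1
    let K : Ideal B' := (I.map f).map (algebraMap B B') ⊔ P
    by_contra hdim
    have hloc : maximalIdeal B' = (maximalIdeal B).map (algebraMap B B') := AdicCompletion.maximalIdeal_eq_map
    have hKm : K ≤ maximalIdeal B' := sup_le
      (by rw [hloc]; exact Ideal.map_mono (hr.trans (le_maximalIdeal (Ideal.IsPrime.ne_top ‹_›))))
      (le_maximalIdeal hP.1.1.ne_top)
    haveI : Nontrivial (B' ⧸ K) :=
      Ideal.Quotient.nontrivial_iff.2 fun h => (maximalIdeal.isMaximal B').ne_top (top_unique (h ▸ hKm))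
    have hmax : ∀ Q : Ideal B', Q.IsPrime → K ≤ Q → Q = maximalIdeal B' := by
      intro Q hQ hKQ
      by_contra hne
      have hlt : Q < maximalIdeal B' := lt_of_le_of_ne (le_maximalIdeal hQ.ne_top) hne
      refine hdim ?_
      rw [ringKrullDim_quotient]
      refine le_trans ?_ (Order.LTSeries.length_le_krullDim
        ((RelSeries.singleton _ (⟨⟨Q, hQ⟩, hKQ⟩ : PrimeSpectrum.zeroLocus (K : Set B'))).snoc
          ⟨⟨maximalIdeal B', inferInstance⟩, hKm⟩ hlt))
      show (1 : WithBot ℕ∞) ≤ ((0 + 1 : ℕ) : WithBot ℕ∞)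
      norm_num
    have hrad : maximalIdeal B' ≤ K.radical := by
      rw [Ideal.radical_eq_sInf]
      exact le_sInf fun Q hQ => (hmax Q hQ.2 hQ.1).ge
    obtain ⟨k, hk⟩ := Ideal.exists_pow_le_of_le_radical_of_fg hrad (IsNoetherian.noetherian _)
    let q : B' →+* B' ⧸ P := Ideal.Quotient.mk P
    let g : A →+* B' ⧸ P := q.comp ((algebraMap B B').comp f)
    haveI : IsLocalRing (B' ⧸ P) := .of_surjective' q Ideal.Quotient.mk_surjective
    have hImap : I.map g = ((I.map f).map (algebraMap B B')).map q := by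
      rw [Ideal.map_map, Ideal.map_map]
      rfl
    haveI : IsHausdorff (I.map g) (B' ⧸ P) := IsHausdorff.of_isLocalRing (I.map g) (B' ⧸ P) (by
      intro h
      rw [hImap, Ideal.eq_top_iff_one, Ideal.mem_map_iff_of_surjective _ Ideal.Quotient.mk_surjective] at h
      obtain ⟨y, hy, hy1⟩ := h
      have : (1 : B') ∈ K := by
        have h2 : 1 - y ∈ P := Ideal.Quotient.eq.1 (by rw [map_one]; exact hy1.symm)
        simpa using add_mem (Ideal.mem_sup_left hy : y ∈ K) (Ideal.mem_sup_right h2)
      exact (maximalIdeal.isMaximal B').ne_top ((Ideal.eq_top_iff_one _).2 (hKm this)))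
    have hg : Function.Surjective g := surjective_of_mk_map_comp_surjective g (I := I) fun z => by
      obtain ⟨z, rfl⟩ := Ideal.Quotient.mk_surjective z
      obtain ⟨y, rfl⟩ := Ideal.Quotient.mk_surjective z
      obtain ⟨b, hb⟩ := CplFib6.exists_sub_mem_pow B k y
      obtain ⟨a, rfl⟩ := hf b
      refine ⟨a, Ideal.Quotient.eq.2 ?_⟩
      have h1 : algebraMap B B' (f a) - y ∈ K := hk (by
        rw [hloc, ← Ideal.map_pow, ← neg_sub]
        exact neg_mem hb)
      have h2 := Ideal.mem_map_of_mem q h1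
      rw [Ideal.map_sup, show P.map q = ⊥ from Ideal.map_quotient_self P, sup_bot_eq, ← hImap, map_sub] at h2
      exact h2
    let φ : B →+* B' ⧸ P := q.comp (algebraMap B B')
    have hinj : Function.Injective φ := by
      refine (injective_iff_map_eq_zero φ).2 fun b hb => ?_
      by_contra hb0
      refine Set.disjoint_left.1 (Ideal.disjoint_nonZeroDivisors_of_mem_minimalPrimes hP)
        (Ideal.Quotient.eq_zero_iff_mem.1 hb) (mem_nonZeroDivisors_iff_right.2 fun x hx => ?_)
      have h2 : b • x = 0 := by rw [Algebra.smul_def, mul_comm]; exact hx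
      exact (smul_eq_zero.1 h2).resolve_left hb0
    have hbij : Function.Bijective φ := ⟨hinj, fun z => by obtain ⟨a, rfl⟩ := hg z; exact ⟨f a, rfl⟩⟩
    let eφ := RingEquiv.ofBijective φ hbij
    let Q : Ideal B' := (r.map (eφ : B →+* B' ⧸ P)).comap q
    haveI : (r.map (eφ : B →+* B' ⧸ P)).IsPrime := Ideal.map_isPrime_of_equiv eφ
    have hQ : K ≤ Q := sup_le (by
        rw [← Ideal.map_le_iff_le_comap, Ideal.map_map]
        exact Ideal.map_mono hr)
      (fun x hx => by
        show q x ∈ r.map (eφ : B →+* B' ⧸ P)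
        rw [Ideal.Quotient.eq_zero_iff_mem.2 hx]
        exact zero_mem _)
    have hQm := hmax Q (Ideal.comap_isPrime q _) hQ
    refine hrm (le_antisymm (le_maximalIdeal (Ideal.IsPrime.ne_top ‹_›)) fun x hx => ?_)
    have : algebraMap B B' x ∈ Q := by rw [hQm, hloc]; exact Ideal.mem_map_of_mem _ hx
    have h2 : eφ x ∈ r.map (eφ : B →+* B' ⧸ P) := this
    obtain ⟨y, hy, hyx⟩ := (Ideal.mem_map_iff_of_surjective (eφ : B →+* B' ⧸ P) eφ.surjective).1 h2
    exact (show y = x from eφ.injective hyx) ▸ hy
  · exact LC.cdLE_of_ringKrullDim_le (I.map f) he.le (ModuleCat.of B B) i hlt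

end Groth.Agent.GrLib8.CplKill
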