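import Groth.Agent.GrLib8.CplKill.Tri
import Groth.Agent.GrLib8.ComplGamma.Rlim
import Groth.Agent.LC.Finiteness
import Groth.Agent.AdicLib.Basic
import Mathlib.RingTheory.Regular.Category

/-!
# Bootstrapping completeness of derived torsion
-/

set_option autoImplicit false
set_option linter.style.haveILetI false
set_option backward.isDefEq.respectTransparency false

universe u

open CategoryTheory CategoryTheory.Limits Pretriangulated DerivedCategory

attribute [local instance] HasDerivedCategory.standard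

namespace Groth.Agent.GrLib8.CplKill

open Groth.Agent.KFlatLib

variable {A : Type u} [CommRing A] [IsNoetherianRing A] (I J : Ideal A) [DRing.HasRgammaI I] [DRing.HasRgammaI J]

omit [DRing.HasRgammaI J] in
/-- Injectivity from a triangle of a multiplication. -/
theorem eq_zero_of_tri {W C : Dual.D A} {u : W ⟶ W} {v : W ⟶ C} {w : C ⟶ W⟦(1 : ℤ)⟧}
    (hT : Triangle.mk u v w ∈ distTriang (Dual.D A)) (hW : Inv I (W⟦(-1 : ℤ)⟧)) (hC : Inv I (C⟦(-1 : ℤ)⟧))
    (φ : Dual.inD A A ⟶ W) (hu : φ ≫ u = 0) (h : (DRing.RgammaIε I).app (Dual.inD A A) ≫ φ = 0) : φ = 0 := by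
  let ε := (DRing.RgammaIε I).app (Dual.inD A A)
  let T₁ := (Triangle.mk u v w).invRotate
  have hT₁ : T₁ ∈ distTriang (Dual.D A) := inv_rot_of_distTriang _ hT
  obtain ⟨q, hq⟩ := Triangle.coyoneda_exact₂ _ hT₁ φ hu
  obtain ⟨g, hg⟩ := Triangle.coyoneda_exact₂ _ (inv_rot_of_distTriang _ hT₁) (ε ≫ q) (by
    show (ε ≫ q) ≫ T₁.mor₁ = 0
    rw [Category.assoc]
    exact (congrArg (ε ≫ ·) hq.symm).trans h)
  obtain ⟨g', rfl⟩ := hW.2 g
  have hq2 : q = g' ≫ T₁.invRotate.mor₁ := hC.1 (by
    show ε ≫ q = ε ≫ g' ≫ _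
    rw [hg]
    exact Category.assoc _ _ _)
  rw [hq, hq2]
  exact (Category.assoc _ _ _).trans ((congrArg (g' ≫ ·)
    (comp_distTriang_mor_zero₁₂ _ (inv_rot_of_distTriang _ hT₁))).trans comp_zero)

omit [DRing.HasRgammaI J] in
/-- Surjectivity from a triangle of a multiplication. -/
theorem mem_range_of_tri {W C : Dual.D A} {u : W ⟶ W} {v : W ⟶ C} {w : C ⟶ W⟦(1 : ℤ)⟧}
    (hT : Triangle.mk u v w ∈ distTriang (Dual.D A)) (hC : Inv I (C⟦(-1 : ℤ)⟧))
    (ψ : (DRing.RgammaI I).obj (Dual.inD A A) ⟶ W) (hu : ψ ≫ u = 0) :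
    ∃ φ : Dual.inD A A ⟶ W, (DRing.RgammaIε I).app (Dual.inD A A) ≫ φ = ψ := by
  let T₁ := (Triangle.mk u v w).invRotate
  obtain ⟨q, hq⟩ := Triangle.coyoneda_exact₂ T₁ (inv_rot_of_distTriang _ hT) ψ hu
  obtain ⟨q', rfl⟩ := hC.2 q
  exact ⟨q' ≫ T₁.mor₁, ((Category.assoc _ _ _).symm).trans hq.symm⟩

variable [DRing.HasDerivedCompletion I]

/-- Below degree zero both sides vanish. -/
theorem inv_neg (M : ModuleCat.{u} A) [Module.Finite A M] (i : ℤ) (hi : i < 0) :
    Inv I (((DRing.RgammaI J).obj (Dual.inD A M))⟦i⟧) := by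
  let Y := (DRing.RgammaI J).obj (Dual.inD A M)
  let G := Dual.inD A A
  haveI : G.IsLE 0 := inferInstanceAs (((DerivedCategory.singleFunctor (ModuleCat.{u} A) 0).obj _).IsLE 0)
  haveI : Y.IsGE 0 := isGE_rgamma J M
  haveI : (Y⟦i⟧).IsGE (-i) := TStructure.t.isGE_shift Y 0 i (-i) (by omega)
  haveI : (((DRing.derivedCompletion I).obj Y).obj).IsGE 0 := (DerivedCategory.isGE_iff _ _).2 fun q hq =>
    H9Misc.DRingCompl.isZ (ComplGamma.ge_cpl_rgamma I J M q hq)
  haveI : ((((DRing.derivedCompletion I).obj Y).obj)⟦i⟧).IsGE (-i) := TStructure.t.isGE_shift _ 0 i (-i) (by omega)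
  have h0 : ∀ ψ : G ⟶ (((DRing.derivedCompletion I).obj Y).obj)⟦i⟧, ψ = 0 := fun ψ =>
    TStructure.t.zero ψ 0 (-i) (by omega)
  refine ⟨fun a b _ => (TStructure.t.zero a 0 (-i) (by omega)).trans (TStructure.t.zero b 0 (-i) (by omega)).symm,
    fun x => ⟨0, ?_⟩⟩
  refine comp_zero.trans (torsion_hom_eq_zero I
    (H9Misc.DRingCompl.isDerivedComplete_shift ((DRing.derivedCompletion I).obj Y).property i)
    ((tb_toCompletion I Y).shift I i) h0 x).symm

omit [DRing.HasDerivedCompletion I] in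
/-- Torsion at the intersection is complete. -/
theorem isDerivedComplete_of_killed [IsAdicComplete I A] (N : ModuleCat.{u} A) [Module.Finite A N] (c : ℕ)
    (h : ∀ a ∈ (J * I) ^ c, ∀ x : N, a • x = 0) :
    DRing.IsDerivedComplete I ((DRing.RgammaI J).obj (Dual.inD A N)) := by
  let N₁ : Submodule A N :=
    { carrier := {x | ∀ a ∈ I ^ c, a • x = 0}
      zero_mem' := fun a _ => smul_zero a
      add_mem' := fun hx hy a ha => by rw [smul_add, hx a ha, hy a ha, add_zero]
      smul_mem' := fun r x hx a ha => by rw [smul_comm, hx a ha, smul_zero] }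
  let S : ShortComplex (ModuleCat.{u} A) := ShortComplex.mk (ModuleCat.ofHom N₁.subtype) (ModuleCat.ofHom N₁.mkQ)
    (ModuleCat.hom_ext (LinearMap.ext fun x => (Submodule.Quotient.mk_eq_zero _).2 x.2))
  have hS : S.ShortExact :=
    { exact := (ShortComplex.moduleCat_exact_iff _).2 fun x hx => ⟨⟨x, (Submodule.Quotient.mk_eq_zero _).1 hx⟩, rfl⟩
      mono_f := (ModuleCat.mono_iff_injective _).2 N₁.injective_subtype
      epi_g := (ModuleCat.epi_iff_surjective _).2 N₁.mkQ_surjective }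
  obtain ⟨v', w', hT⟩ := exists_triangle_rgamma J hS.singleTriangle_distinguished
  refine isDerivedComplete_middle I hT (isDerivedComplete_rgamma_of_killed J I (ModuleCat.of A N₁) c
    fun a ha x => Subtype.ext (x.2 a ha)) ?_
  let Q := N ⧸ N₁
  have hQ : LocCoh.IsPowerTorsion J Q := fun y => ⟨c, fun b hb => by
    obtain ⟨x, rfl⟩ := Submodule.Quotient.mk_surjective _ y
    rw [← Submodule.Quotient.mk_smul, Submodule.Quotient.mk_eq_zero]
    intro a ha
    rw [smul_smul]
    exact h _ (by rw [mul_pow, mul_comm a b]; exact Ideal.mul_mem_mul hb ha) x⟩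
  haveI : IsAdicComplete I Q := AdicLib.isAdicComplete_of_finite I Q
  obtain ⟨e, -⟩ := exists_iso_of_tb J (C := Dual.inD A Q) (X := Dual.inD A Q) (𝟙 _) (fun q => by
    by_cases hq : q = 0
    · subst hq
      intro z
      obtain ⟨n, hn⟩ := hQ (H9Misc.DRingTel.homologyInD Q z)
      exact ⟨n, fun a ha => (H9Misc.DRingTel.homologyInD Q).injective (by rw [map_smul, hn a ha, map_zero])⟩
    · haveI := H9Misc.DRingTel.subsingleton_homology_inD (A := A) Q hq
      exact fun z => ⟨0, fun a _ => Subsingleton.elim _ _⟩)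
    (fun L _ => ⟨fun a b hab => by simpa using hab, fun a => ⟨a, Category.comp_id a⟩⟩)
  intro f hf m
  haveI := Groth.Agent.S7048.result I Q f hf m
  exact ((shiftFunctor (Dual.D A) m).mapIso e).homToEquiv.subsingleton

/-- Completeness in a range from killing in that range. -/
theorem inv_of_kill [IsAdicComplete I A] (P : ℕ → ModuleCat.{u} A → Prop)
    (hquot : ∀ (s : ℕ) (M : ModuleCat.{u} A), Module.Finite A M → P s M →
      P s (ModuleCat.of A (M ⧸ DRing.torsionSub (J * I) M)))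
    (hdiv : ∀ (s : ℕ) (M : ModuleCat.{u} A) (x : A), Module.Finite A M → x ∈ J * I → IsSMulRegular M x →
      P (s + 1) M → P s (ModuleCat.of A (QuotSMulTop x M)))
    (hkill : ∀ (s : ℕ) (M : ModuleCat.{u} A), Module.Finite A M → P s M → ∃ c : ℕ, ∀ i : ℤ, 0 ≤ i → i ≤ s →
      ∀ x ∈ (J * I) ^ c, ∀ ψ : (DRing.RgammaI I).obj (Dual.inD A A) ⟶
        ((DRing.RgammaI J).obj (Dual.inD A M))⟦i⟧, x • ψ = 0) :
    ∀ (s : ℕ) (M : ModuleCat.{u} A), Module.Finite A M → P s M → ∀ i : ℤ, i ≤ s →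
      Inv I (((DRing.RgammaI J).obj (Dual.inD A M))⟦i⟧) := by
  suffices H : ∀ (n : ℕ) (s : ℕ) (M : ModuleCat.{u} A), Module.Finite A M → P s M → ∀ i : ℤ, i ≤ s → i < n →
      Inv I (((DRing.RgammaI J).obj (Dual.inD A M))⟦i⟧) from
    fun s M hM hP i hi => H (s + 1) s M hM hP i hi (by omega)
  intro n
  induction n with
  | zero =>
    intro s M hM _ i _ hi
    exact inv_neg I J M i (by omega)
  | succ n ih =>
    have hfree : ∀ (s : ℕ) (M : ModuleCat.{u} A), Module.Finite A M → P s M → DRing.torsionSub (J * I) M = ⊥ →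
        ∀ i : ℤ, i ≤ s → i < n + 1 → Inv I (((DRing.RgammaI J).obj (Dual.inD A M))⟦i⟧) := by
      intro s M hM hP htf i hi hin
      haveI := hM
      rcases lt_or_ge i 0 with hi0 | hi0
      · exact inv_neg I J M i hi0
      obtain ⟨c, hc⟩ := hkill s M hM hP
      obtain ⟨x, hx, hreg⟩ := LC.exists_regular_of_torsionFree ((J * I) ^ (c + 1)) M (by
        refine eq_bot_iff.2 fun m ⟨k, hk⟩ => htf ▸ ⟨(c + 1) * k, fun a ha => hk a ?_⟩
        rwa [← pow_mul])
      have hxK : x ∈ J * I := Ideal.pow_le_self (Nat.succ_ne_zero c) hx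
      have hxc : x ∈ (J * I) ^ c := Ideal.pow_le_pow_right (Nat.le_succ c) hx
      have hW : Inv I ((((DRing.RgammaI J).obj (Dual.inD A M))⟦i⟧)⟦(-1 : ℤ)⟧) :=
        (ih s M hM hP (i - 1) (by omega) (by omega)).of_iso I
          ((shiftFunctorAdd' (Dual.D A) i (-1) (i - 1) (by omega)).app _)
      have htri : ∀ y : A, y ∈ J * I → IsSMulRegular M y → ∃ (C : Dual.D A) (u : ((DRing.RgammaI J).obj (Dual.inD A M))⟦i⟧ ⟶
          ((DRing.RgammaI J).obj (Dual.inD A M))⟦i⟧) (v : _ ⟶ C) (w : C ⟶ _), Triangle.mk u v w ∈ distTriang (Dual.D A) ∧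
          Inv I (C⟦(-1 : ℤ)⟧) ∧ ∀ (R : Dual.D A) (f : R ⟶ ((DRing.RgammaI J).obj (Dual.inD A M))⟦i⟧),
            y • f = 0 → f ≫ u = 0 := by
        intro y hy hyreg
        obtain ⟨v', w', hT⟩ := exists_triangle_rgamma J hyreg.smulShortComplex_shortExact.singleTriangle_distinguished
        refine ⟨_, _, _, _, Triangle.shift_distinguished _ hT i, ?_, fun R f hf => ?_⟩
        · have hC : Inv I (((DRing.RgammaI J).obj (Dual.inD A (QuotSMulTop y M)))⟦i - 1⟧) := by
            rcases lt_or_ge (i - 1) 0 with h1 | h1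
            · exact inv_neg I J (ModuleCat.of A (QuotSMulTop y M)) (i - 1) h1
            · obtain ⟨s', rfl⟩ : ∃ s' : ℕ, s = s' + 1 := ⟨s - 1, by omega⟩
              exact ih s' (ModuleCat.of A (QuotSMulTop y M)) inferInstance (hdiv s' M y hM hy hyreg hP) (i - 1)
                (by omega) (by omega)
          exact hC.of_iso I ((shiftFunctorAdd' (Dual.D A) i (-1) (i - 1) (by omega)).app _)
        · show f ≫ (i.negOnePow • ((DRing.RgammaI J).map
            ((DerivedCategory.singleFunctor (ModuleCat.{u} A) 0).map (M.smulShortComplex y).f))⟦i⟧') = 0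
          rw [ModuleCat.smulShortComplex_f_eq_smul_id, Functor.map_smul]
          erw [CategoryTheory.Functor.map_id]
          erw [rgamma_map_smul J y]
          rw [Functor.map_smul, CategoryTheory.Functor.map_id, Linear.comp_units_smul, Linear.comp_smul]
          erw [Category.comp_id, hf, smul_zero]
      constructor
      · intro a b hab
        refine sub_eq_zero.1 ?_
        have h0 : (DRing.RgammaIε I).app (Dual.inD A A) ≫ (a - b) = 0 := by
          rw [Preadditive.comp_sub, sub_eq_zero]; exact hab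
        obtain ⟨k, hk⟩ := exists_pow_smul_eq_zero J _ (tors_shift J (isPowerTorsion_hd_rgamma J (Dual.inD A M)) i 0) (a - b)
        obtain ⟨C, uu, v, w, hT, hC, hu⟩ := htri (x ^ (k + 1)) (Ideal.pow_mem_of_mem _ hxK (k + 1) (Nat.succ_pos k))
          (hreg.pow (k + 1))
        exact eq_zero_of_tri I hT hW hC (a - b) (hu _ _ (hk _ (Ideal.pow_le_pow_right (Nat.le_succ k)
          (Ideal.pow_mem_pow (Ideal.mul_le_left hxK) (k + 1))))) h0
      · intro ψ
        obtain ⟨C, uu, v, w, hT, hC, hu⟩ := htri x hxK hreg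
        exact mem_range_of_tri I hT hC ψ (hu _ _ (hc i hi0 hi x hxc ψ))
    intro s M hM hP i hi hin
    haveI := hM
    let N := DRing.torsionSub (J * I) M
    obtain ⟨c, hc⟩ := LC.exists_pow_smul_eq_zero_of_finite (J * I) N (LC.isPowerTorsion_torsionSub (J * I) M)
    have hY := isDerivedComplete_of_killed I J (ModuleCat.of A N) c hc
    let S : ShortComplex (ModuleCat.{u} A) := ShortComplex.mk (ModuleCat.ofHom N.subtype) (ModuleCat.ofHom N.mkQ)
      (ModuleCat.hom_ext (LinearMap.ext fun z => (Submodule.Quotient.mk_eq_zero _).2 z.2))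
    have hS : S.ShortExact :=
      { exact := (ShortComplex.moduleCat_exact_iff _).2 fun z hz => ⟨⟨z, (Submodule.Quotient.mk_eq_zero _).1 hz⟩, rfl⟩
        mono_f := (ModuleCat.mono_iff_injective _).2 N.injective_subtype
        epi_g := (ModuleCat.epi_iff_surjective _).2 N.mkQ_surjective }
    obtain ⟨v', w', hT⟩ := exists_triangle_rgamma J hS.singleTriangle_distinguished
    refine inv_middle I (Triangle.shift_distinguished _ hT i) ?_ ?_ ?_ ?_
    · exact inv_of_complete I (H9Misc.DRingCompl.isDerivedComplete_shift hY i)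
    · exact inv_of_complete I (H9Misc.DRingCompl.isDerivedComplete_shift
        (H9Misc.DRingCompl.isDerivedComplete_shift hY i) 1)
    · exact hfree s _ inferInstance (hquot s M hM hP) (LC.torsionSub_quot_eq_bot (J * I) M) i hi (by omega)
    · exact (hfree s _ inferInstance (hquot s M hM hP) (LC.torsionSub_quot_eq_bot (J * I) M) (i - 1) (by omega)
        (by omega)).of_iso I ((shiftFunctorAdd' (Dual.D A) i (-1) (i - 1) (by omega)).app _)

end Groth.Agent.GrLib8.CplKill
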