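import Groth.Agent.GrLib8.CplKill.Tri

/-!
# Multipliers killing maps into an object from its cohomology
-/

set_option autoImplicit false
set_option linter.style.haveILetI false
set_option backward.isDefEq.respectTransparency false

universe u

open CategoryTheory CategoryTheory.Limits Pretriangulated DerivedCategory

attribute [local instance] HasDerivedCategory.standard

namespace Groth.Agent.GrLib8.CplKill

open Groth.Agent.KFlatLib

variable {A : Type u} [CommRing A]

/-- Killing maps into modules killed by an ideal from vanishing on modules killed by its small primes. -/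
theorem exists_kill_module [IsNoetherianRing A] (p : PrimeSpectrum A) (L : Dual.D A) (𝔞 : Ideal A)
    (h : ∀ P : PrimeSpectrum A, 𝔞 ≤ P.asIdeal → P ≤ p → ∀ W : ModuleCat.{u} A, (∀ a ∈ P.asIdeal, ∀ w : W, a • w = 0) →
      ∀ ψ : L ⟶ (DerivedCategory.singleFunctor (ModuleCat.{u} A) 0).obj W, ψ = 0)
    (W : ModuleCat.{u} A) (hW : ∀ a ∈ 𝔞, ∀ w : W, a • w = 0) :
    ∃ g : A, g ∉ p.asIdeal ∧
      ∀ ψ : L ⟶ (DerivedCategory.singleFunctor (ModuleCat.{u} A) 0).obj W, g • ψ = 0 := by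
  suffices H : ∀ 𝔟 : Ideal A, 𝔞 ≤ 𝔟 → ∀ W : ModuleCat.{u} A, (∀ a ∈ 𝔟, ∀ w : W, a • w = 0) → ∃ g : A, g ∉ p.asIdeal ∧
      ∀ ψ : L ⟶ (DerivedCategory.singleFunctor (ModuleCat.{u} A) 0).obj W, g • ψ = 0 from H 𝔞 le_rfl W hW
  intro 𝔟
  induction 𝔟 using WellFoundedGT.induction with
  | ind 𝔟 ih =>
    intro hle W hW
    let F := DerivedCategory.singleFunctor (ModuleCat.{u} A) 0
    have hid : ∀ g ∈ 𝔟, ∀ ψ : L ⟶ F.obj W, g • ψ = 0 := fun g hg ψ => by
      have h1 : g • 𝟙 W = 0 := ModuleCat.hom_ext (LinearMap.ext fun w => hW g hg w)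
      rw [← Category.comp_id ψ, ← CategoryTheory.Functor.map_id, ← Linear.comp_smul, ← Functor.map_smul, h1,
        Functor.map_zero, comp_zero]
    by_cases htop : 𝔟 = ⊤
    · exact ⟨1, fun h1 => p.isPrime.ne_top ((Ideal.eq_top_iff_one _).2 h1), hid 1 (by rw [htop]; trivial)⟩
    by_cases hprime : 𝔟.IsPrime
    · by_cases hp : 𝔟 ≤ p.asIdeal
      · exact ⟨1, fun h1 => p.isPrime.ne_top ((Ideal.eq_top_iff_one _).2 h1), fun ψ => by
          rw [one_smul]; exact h ⟨𝔟, hprime⟩ hle hp W hW ψ⟩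
      · obtain ⟨g, hg, hgp⟩ := SetLike.not_le_iff_exists.1 hp
        exact ⟨g, hgp, hid g hg⟩
    obtain ⟨a, ha, b, hb, hab⟩ := ((Ideal.not_isPrime_iff).1 hprime).resolve_left htop
    let W₁ : Submodule A W := LinearMap.range (LinearMap.lsmul A W b)
    let S : ShortComplex (ModuleCat.{u} A) := ShortComplex.mk (ModuleCat.ofHom W₁.subtype) (ModuleCat.ofHom W₁.mkQ)
      (ModuleCat.hom_ext (LinearMap.ext fun x => (Submodule.Quotient.mk_eq_zero _).2 x.2))
    have hS : S.ShortExact :=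
      { exact := (ShortComplex.moduleCat_exact_iff _).2 fun x hx => ⟨⟨x, (Submodule.Quotient.mk_eq_zero _).1 hx⟩, rfl⟩
        mono_f := (ModuleCat.mono_iff_injective _).2 W₁.injective_subtype
        epi_g := (ModuleCat.epi_iff_surjective _).2 W₁.mkQ_surjective }
    have hlt : ∀ c : A, c ∉ 𝔟 → 𝔟 < 𝔟 ⊔ Ideal.span {c} := fun c hc =>
      lt_of_le_of_ne le_sup_left fun h1 => hc (h1 ▸ Ideal.mem_sup_right (Ideal.mem_span_singleton_self c))
    obtain ⟨g₁, hg₁, hk₁⟩ := ih _ (hlt a ha) (hle.trans le_sup_left) (ModuleCat.of A W₁) (by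
      intro c hc w
      obtain ⟨x, hx, y, hy, rfl⟩ := Submodule.mem_sup.1 hc
      obtain ⟨z, rfl⟩ := Ideal.mem_span_singleton'.1 hy
      obtain ⟨w, v, rfl⟩ := w
      refine Subtype.ext ?_
      show (x + z * a) • (b • v) = 0
      rw [add_smul, hW x hx, zero_add, smul_smul, mul_assoc, mul_smul, hW _ hab, smul_zero])
    obtain ⟨g₂, hg₂, hk₂⟩ := ih _ (hlt b hb) (hle.trans le_sup_left) (ModuleCat.of A (W ⧸ W₁)) (by
      intro c hc w
      obtain ⟨x, hx, y, hy, rfl⟩ := Submodule.mem_sup.1 hc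
      obtain ⟨z, rfl⟩ := Ideal.mem_span_singleton'.1 hy
      obtain ⟨v, rfl⟩ := Submodule.Quotient.mk_surjective _ w
      rw [← Submodule.Quotient.mk_smul, Submodule.Quotient.mk_eq_zero, add_smul, hW x hx, zero_add]
      exact ⟨z • v, show b • (z • v) = _ by rw [smul_smul, mul_comm b z]⟩)
    refine ⟨g₁ * g₂, fun hm => (p.isPrime.mem_or_mem hm).elim hg₁ hg₂, fun ψ => ?_⟩
    have h2 : (g₂ • ψ) ≫ F.map S.g = 0 := by rw [Linear.smul_comp]; exact hk₂ (ψ ≫ F.map S.g)
    obtain ⟨k, hk⟩ := Triangle.coyoneda_exact₂ _ hS.singleTriangle_distinguished (g₂ • ψ) h2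
    rw [mul_smul, hk]
    show g₁ • (k ≫ F.map S.f) = 0
    rw [← Linear.smul_comp]
    exact (congrArg (· ≫ F.map S.f) (hk₁ k)).trans zero_comp

/-- Killing maps into an object from killing maps into its cohomology pieces. -/
theorem exists_kill_object (p : PrimeSpectrum A) {b : ℤ} (L : Dual.D A) [L.IsLE b] :
    ∀ (n : ℕ) (Z : Dual.D A) (a : ℤ), Z.IsGE a → b + 1 = a + n →
      (∀ q : ℤ, q ≤ b → ∀ W : ModuleCat.{u} A, (∀ c : A, (∀ x : Dual.HD A Z q, c • x = 0) → ∀ w : W, c • w = 0) →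
        ∃ g : A, g ∉ p.asIdeal ∧
          ∀ ψ : L ⟶ ((DerivedCategory.singleFunctor (ModuleCat.{u} A) 0).obj W)⟦-q⟧, g • ψ = 0) →
      ∃ g : A, g ∉ p.asIdeal ∧ ∀ h : L ⟶ Z, g • h = 0 := by
  intro n
  induction n with
  | zero =>
    intro Z a hZ hn _
    haveI := hZ
    exact ⟨1, fun h1 => p.isPrime.ne_top ((Ideal.eq_top_iff_one _).2 h1), fun h => by
      rw [one_smul]; exact TStructure.t.zero h b a (by omega)⟩
  | succ n ih =>
    intro Z a hZ hn hk
    haveI := hZ
    let t := TStructure.t (C := ModuleCat.{u} A)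
    let P := (t.truncLT (a + 1)).obj Z
    let ι : P ⟶ Z := (t.truncLTι (a + 1)).app Z
    let Z' := (t.truncGE (a + 1)).obj Z
    let π : Z ⟶ Z' := (t.truncGEπ (a + 1)).app Z
    haveI : P.IsLE a := t.isLE_truncLT_obj ..
    haveI : Z'.IsGE (a + 1) := t.isGE_truncGE_obj ..
    haveI : P.IsGE a := (DerivedCategory.isGE_iff _ _).2 fun q hq => by
      haveI := H9Misc.isIso_map_truncLTι (a + 1) q (by omega) Z
      exact (DerivedCategory.isZero_of_isGE Z a q hq).of_iso (asIso ((homologyFunctor (ModuleCat.{u} A) q).map ι))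
    have hk' : ∀ q : ℤ, q ≤ b → ∀ W : ModuleCat.{u} A, (∀ c : A, (∀ x : Dual.HD A Z' q, c • x = 0) → ∀ w : W, c • w = 0) →
        ∃ g : A, g ∉ p.asIdeal ∧
          ∀ ψ : L ⟶ ((DerivedCategory.singleFunctor (ModuleCat.{u} A) 0).obj W)⟦-q⟧, g • ψ = 0 := by
      intro q hq W hW
      refine hk q hq W fun c hc => hW c fun x => ?_
      by_cases hqa : q < a + 1
      · exact @Subsingleton.elim _ (ModuleCat.subsingleton_of_isZero (DerivedCategory.isZero_of_isGE Z' (a + 1) q hqa)) _ _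
      haveI : IsIso ((homologyFunctor (ModuleCat.{u} A) q).map π) :=
        H9Misc.isIso_map_truncGEπ (a + 1) q (by omega) Z
      obtain ⟨y, rfl⟩ := ((ConcreteCategory.isIso_iff_bijective ((homologyFunctor (ModuleCat.{u} A) q).map π)).1
        inferInstance).2 x
      rw [← map_smul, show c • (show Dual.HD A Z q from y) = 0 from hc y, map_zero]
    obtain ⟨g₂, hg₂, hk₂⟩ := ih Z' (a + 1) inferInstance (by omega) hk'
    obtain ⟨X, ⟨eX⟩⟩ := exists_iso_singleFunctor_obj_of_isGE_of_isLE P a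
    let e : P ≅ ((DerivedCategory.singleFunctor (ModuleCat.{u} A) 0).obj X)⟦-a⟧ :=
      eX ≪≫ (((DerivedCategory.singleFunctors (ModuleCat.{u} A)).shiftIso (-a) a 0 (by omega)).app X).symm
    obtain ⟨g₁, hg₁, hk₁⟩ := hk a (by omega) X fun c hc => by
      have hP : c • 𝟙 P = 0 := by
        refine (bijective_homologyMap (X := P) (Y := P) a).1 (ModuleCat.hom_ext (LinearMap.ext fun y => ?_))
        simp only [Functor.map_smul, Functor.map_zero, ModuleCat.hom_smul, ModuleCat.hom_zero, LinearMap.smul_apply,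
          LinearMap.zero_apply, CategoryTheory.Functor.map_id]
        haveI := H9Misc.isIso_map_truncLTι (a + 1) a (by omega) Z
        apply ((ConcreteCategory.isIso_iff_bijective ((homologyFunctor (ModuleCat.{u} A) a).map ι)).1 inferInstance).1
        rw [map_zero, map_smul]
        exact hc _
      have hX : c • 𝟙 X = 0 := by
        refine (DerivedCategory.singleFunctor (ModuleCat.{u} A) a).map_injective ?_
        rw [Functor.map_smul, CategoryTheory.Functor.map_id, Functor.map_zero, ← eX.inv_hom_id]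
        rw [show eX.inv ≫ eX.hom = eX.inv ≫ 𝟙 P ≫ eX.hom by rw [Category.id_comp], ← Linear.comp_smul,
          ← Linear.smul_comp, hP, zero_comp, comp_zero]
      exact fun w => LinearMap.congr_fun (congrArg ModuleCat.Hom.hom hX) w
    refine ⟨g₁ * g₂, fun hm => (p.isPrime.mem_or_mem hm).elim hg₁ hg₂, fun h => ?_⟩
    have h2 : (g₂ • h) ≫ π = 0 := by rw [Linear.smul_comp]; exact hk₂ (h ≫ π)
    obtain ⟨k, hkk⟩ := Triangle.coyoneda_exact₂ _ (t.triangleLTGE_distinguished (a + 1) Z) (g₂ • h) h2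
    have hk0 : g₁ • k = 0 := by
      rw [← cancel_mono e.hom, Linear.smul_comp, zero_comp]
      exact hk₁ _
    rw [mul_smul, hkk]
    exact ((Linear.smul_comp _ _ _ _ _ _).symm.trans (congrArg (· ≫ ι) hk0)).trans zero_comp

end Groth.Agent.GrLib8.CplKill
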