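import Groth.Agent.GrLib8.CplKill.Induct
import Groth.Agent.GrLib8.CplKill.Restrict
import Groth.Agent.GrLib8.CplKill.Hlvt
import Groth.Agent.GrLib8.CplKill.Pieces
import Groth.Agent.GrLib8.ProZ.Local
import Groth.Agent.LC.AdjDepth
import Groth.Agent.LC.CdBase
import Groth.Agent.S1712
import Groth.Agent.S1713
import Groth.Agent.S0328

/-!
# Completeness of derived torsion in a range over a local ring
-/

set_option autoImplicit false
set_option linter.style.haveILetI false
set_option backward.isDefEq.respectTransparency false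

universe u

open CategoryTheory CategoryTheory.Limits Pretriangulated DerivedCategory IsLocalRing

attribute [local instance] HasDerivedCategory.standard

namespace Groth.Agent.GrLib8.CplKill

open Groth.Agent.KFlatLib

variable {A : Type u} [CommRing A] [IsNoetherianRing A] [IsLocalRing A] (I J : Ideal A)

/-- The primes whose closure meets the given closed set at most in the closed point. -/
def Tr (p : PrimeSpectrum A) : Prop :=
  ∀ r : PrimeSpectrum A, p ≤ r → I ≤ r.asIdeal → r.asIdeal = maximalIdeal A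

/-- The hypothesis of the bootstrap. -/
def Good (d s : ℕ) (M : Type u) [AddCommGroup M] [Module A M] : Prop :=
  (∀ p : PrimeSpectrum A, ¬ I ≤ p.asIdeal → ¬ Tr I p →
    (s : ℕ∞) ≤ LocCoh.depth (Localization.AtPrime p.asIdeal) (LocalizedModule p.asIdeal.primeCompl M) ∨
      (((d + s : ℕ) : ℕ∞) : WithBot ℕ∞) < ((LocCoh.depth (Localization.AtPrime p.asIdeal)
        (LocalizedModule p.asIdeal.primeCompl M) : ℕ∞) : WithBot ℕ∞) + ringKrullDim (A ⧸ p.asIdeal)) ∧
  ∀ p : PrimeSpectrum A, ¬ I ≤ p.asIdeal → ¬ J ≤ p.asIdeal → Tr I p →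
    (s : ℕ∞) < LocCoh.depth (Localization.AtPrime p.asIdeal) (LocalizedModule p.asIdeal.primeCompl M)

variable {I J}

theorem Tr.of_le {p : PrimeSpectrum A}
    (hV : ∀ r : PrimeSpectrum A, J ≤ r.asIdeal → I ≤ r.asIdeal → r.asIdeal = maximalIdeal A)
    (h : J ≤ p.asIdeal) : Tr I p := fun r hpr hI => hV r (h.trans hpr) hI

theorem good_quot {d s : ℕ} {M : Type u} [AddCommGroup M] [Module A M] [Module.Finite A M]
    (hV : ∀ r : PrimeSpectrum A, J ≤ r.asIdeal → I ≤ r.asIdeal → r.asIdeal = maximalIdeal A)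
    (h : Good I J d s M) : Good I J d s (M ⧸ DRing.torsionSub (J * I) M) := by
  have key : ∀ p : PrimeSpectrum A, ¬ I ≤ p.asIdeal → ¬ J ≤ p.asIdeal →
      LocCoh.depth (Localization.AtPrime p.asIdeal) (LocalizedModule p.asIdeal.primeCompl (M ⧸ DRing.torsionSub (J * I) M)) =
        LocCoh.depth (Localization.AtPrime p.asIdeal) (LocalizedModule p.asIdeal.primeCompl M) := fun p h1 h2 =>
    LC.depth_localized_torsionQuot M (J * I) p.asIdeal fun hle => (p.isPrime.mul_le.1 hle).elim h2 h1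
  refine ⟨fun p h1 h2 => ?_, fun p h1 h2 h3 => ?_⟩
  · rw [key p h1 fun hJ => h2 (Tr.of_le hV hJ)]
    exact h.1 p h1 h2
  · rw [key p h1 h2]
    exact h.2 p h1 h2 h3

omit [IsLocalRing A] in
theorem depth_quot_notMem (M : Type u) [AddCommGroup M] [Module A M] (p : Ideal A) [p.IsPrime] {x : A} (hx : x ∉ p) :
    LocCoh.depth (Localization.AtPrime p) (LocalizedModule p.primeCompl (QuotSMulTop x M)) = ⊤ := by
  haveI : Subsingleton (LocalizedModule p.primeCompl (QuotSMulTop x M)) := LocalizedModule.subsingleton_iff.2 fun m => by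
    obtain ⟨y, rfl⟩ := Submodule.Quotient.mk_surjective _ m
    exact ⟨x, hx, by
      rw [← Submodule.Quotient.mk_smul, Submodule.Quotient.mk_eq_zero]
      exact Submodule.smul_mem_pointwise_smul y x ⊤ trivial⟩
  rw [LocCoh.depth, LocCoh.idealDepth, if_pos (Subsingleton.elim _ _)]

theorem good_div {d s : ℕ} {M : Type u} [AddCommGroup M] [Module A M] [Module.Finite A M] {x : A}
    (hreg : IsSMulRegular M x) (h : Good I J d (s + 1) M) : Good I J d s (QuotSMulTop x M) := by
  refine ⟨fun p h1 h2 => ?_, fun p h1 h2 h3 => ?_⟩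
  · by_cases hx : x ∈ p.asIdeal
    · have hd := LC.depth_localized_quot_add_one M p.asIdeal hx hreg
      have h4 := h.1 p h1 h2
      rw [← hd] at h4
      haveI : Nontrivial (A ⧸ p.asIdeal) := Ideal.Quotient.nontrivial_iff.2 p.isPrime.ne_top
      generalize ringKrullDim (A ⧸ p.asIdeal) = e at h4 ⊢
      generalize LocCoh.depth (Localization.AtPrime p.asIdeal) (LocalizedModule p.asIdeal.primeCompl (QuotSMulTop x M)) = δ at h4 ⊢
      induction δ using ENat.recTopCoe with
      | top => exact Or.inl le_top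
      | coe δ =>
        induction e with
        | bot =>
          rcases h4 with h5 | h5
          · exact Or.inl (by exact_mod_cast (show s ≤ δ by have : s + 1 ≤ δ + 1 := (by exact_mod_cast h5); omega))
          · simp at h5
        | coe e =>
          induction e using ENat.recTopCoe with
          | top =>
            refine Or.inr ?_
            rw [← WithBot.coe_add, add_top]
            exact WithBot.coe_lt_coe.2 (ENat.natCast_lt_top _)
          | coe e =>
            rcases h4 with h5 | h5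
            · exact Or.inl (by exact_mod_cast (show s ≤ δ by have : s + 1 ≤ δ + 1 := (by exact_mod_cast h5); omega))
            · exact Or.inr (by exact_mod_cast (show d + s < δ + e by
                have : d + (s + 1) < δ + 1 + e := (by exact_mod_cast h5)
                omega))
    · exact Or.inl (le_of_le_of_eq le_top (depth_quot_notMem M p.asIdeal hx).symm)
  · by_cases hx : x ∈ p.asIdeal
    · have h4 := h.2 p h1 h2 h3
      rw [← LC.depth_localized_quot_add_one M p.asIdeal hx hreg, Nat.cast_add, Nat.cast_one] at h4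
      exact lt_of_add_lt_add_right h4
    · rw [depth_quot_notMem M p.asIdeal hx]
      exact ENat.natCast_lt_top s

variable [DRing.HasRgammaI I] [DRing.HasRgammaI J] [DRing.HasDerivedCompletion I] [IsAdicComplete I A]

/-- Nothing maps to modules over a small enough quotient. -/
theorem hom_module_eq_zero {d s : ℕ} (hcd : LocCoh.CdLE A I d) {M : Type u} [AddCommGroup M] [Module A M]
    (hG : Good I J d s M) (P : PrimeSpectrum A) (hPI : ¬ I ≤ P.asIdeal) (hPJ : ¬ J ≤ P.asIdeal) {e : ℕ}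
    (he : ringKrullDim (A ⧸ P.asIdeal) = (e : WithBot ℕ∞)) (q₀ : ℕ) (i q : ℤ) (hi : i ≤ s) (hq : q + i = q₀)
    (hdep : ((LocCoh.depth (Localization.AtPrime P.asIdeal) (LocalizedModule P.asIdeal.primeCompl M) : ℕ∞) : WithBot ℕ∞) +
      ringKrullDim (A ⧸ P.asIdeal) ≤ (q₀ : WithBot ℕ∞))
    (W : ModuleCat.{u} A) (hW : ∀ a ∈ P.asIdeal, ∀ w : W, a • w = 0)
    (ψ : (DRing.RgammaI I).obj (Dual.inD A A) ⟶ ((DerivedCategory.singleFunctor (ModuleCat.{u} A) 0).obj W)⟦-q⟧) :
    ψ = 0 := by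
  rw [he] at hdep
  obtain ⟨δ, hδ⟩ : ∃ δ : ℕ, LocCoh.depth (Localization.AtPrime P.asIdeal) (LocalizedModule P.asIdeal.primeCompl M) = δ := by
    refine ⟨_, (ENat.coe_toNat fun h => ?_).symm⟩
    rw [h] at hdep
    rw [show ((⊤ : ℕ∞) : WithBot ℕ∞) + (e : WithBot ℕ∞) = (((⊤ : ℕ∞) + (e : ℕ∞) : ℕ∞) : WithBot ℕ∞) from rfl,
      top_add, show (q₀ : WithBot ℕ∞) = ((q₀ : ℕ∞) : WithBot ℕ∞) from rfl, WithBot.coe_le_coe] at hdep
    exact absurd hdep (not_le.2 (ENat.natCast_lt_top _))
  rw [hδ] at hdep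
  have hsum : δ + e ≤ q₀ := by exact_mod_cast hdep
  let B := A ⧸ P.asIdeal
  let f : A →+* B := Ideal.Quotient.mk P.asIdeal
  haveI : Nontrivial B := Ideal.Quotient.nontrivial_iff.2 P.isPrime.ne_top
  haveI : IsLocalRing B := .of_surjective' f Ideal.Quotient.mk_surjective
  have main : ∀ c : ℕ, LocCoh.CdLE B (I.map f) c → (c : ℤ) < q → ψ = 0 := by
    intro c hc hlt
    have ht : Module.IsTorsionBySet A W (P.asIdeal : Set A) := fun w a => hW a.1 a.2 w
    letI := ht.module
    let e₀ : (ModuleCat.restrictScalars.{u} f).obj (ModuleCat.of B W) ≅ W :=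
      LinearEquiv.toModuleIso
        { toFun := fun w => w
          invFun := fun w => w
          map_add' := fun _ _ => rfl
          map_smul' := fun a w => by exact Module.IsTorsionBySet.mk_smul ht a w
          left_inv := fun _ => rfl
          right_inv := fun _ => rfl }
    let e₁ := (shiftFunctor (Dual.D A) (-q)).mapIso ((DerivedCategory.singleFunctor (ModuleCat.{u} A) 0).mapIso e₀)
    rw [← cancel_mono e₁.inv, zero_comp]
    exact hom_restrict_eq_zero f I c hc (ModuleCat.of B W) (-q) (by omega) _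
  by_cases hT : Tr I P
  · have h1 := hG.2 P hPI hPJ hT
    rw [hδ, Nat.cast_lt] at h1
    exact main e (LC.cdLE_of_ringKrullDim_le (I.map f) he.le) (by omega)
  · rcases hG.1 P hPI hT with h1 | h1
    · rw [hδ, Nat.cast_le] at h1
      simp only [Tr, not_forall] at hT
      obtain ⟨r, hPr, hIr, hrm⟩ := hT
      have hker : RingHom.ker f ≤ r.asIdeal := by rw [Ideal.mk_ker]; exact hPr
      haveI : (r.asIdeal.map f).IsPrime := Ideal.map_isPrime_of_surjective Ideal.Quotient.mk_surjective hker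
      have hne : r.asIdeal.map f ≠ maximalIdeal B := fun h2 => hrm (by
        have h3 := congrArg (Ideal.comap f) h2
        rw [Ideal.comap_map_of_surjective f Ideal.Quotient.mk_surjective, ← RingHom.ker_eq_comap_bot, sup_of_le_left hker] at h3
        rw [h3]
        exact IsLocalRing.eq_maximalIdeal (Ideal.comap_isMaximal_of_surjective f Ideal.Quotient.mk_surjective))
      obtain ⟨e', rfl⟩ : ∃ e', e = e' + 1 := by
        refine ⟨e - 1, ?_⟩
        by_contra he0
        obtain rfl : e = 0 := by omega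
        haveI : Ring.KrullDimLE 0 B := Ring.krullDimLE_iff.2 (by rw [he])
        exact hne (Ring.KrullDimLE.eq_maximalIdeal_of_isPrime _)
      exact main e' (cdLE_of_image I f Ideal.Quotient.mk_surjective he (r.asIdeal.map f) (Ideal.map_mono hIr) hne) (by omega)
    · rw [he, hδ] at h1
      have h2 : d + s < δ + e := by exact_mod_cast h1
      exact hom_single_eq_zero I d hcd W (-q) (by omega) ψ

/-- A multiplier off a prime killing the torsion maps in one degree. -/
theorem exists_kill_point (hA : ∃ ω : Dual.D A, Dual.IsDualizing A ω) {d : ℕ} (hcd : LocCoh.CdLE A I d)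
    (hV : ∀ r : PrimeSpectrum A, J ≤ r.asIdeal → I ≤ r.asIdeal → r.asIdeal = maximalIdeal A)
    (hJI : J ⊔ I ≤ maximalIdeal A)
    {s : ℕ} (M : Type u) [AddCommGroup M] [Module A M] [Module.Finite A M] (hG : Good I J d s M) (p : PrimeSpectrum A)
    (hp : ¬ J * I ≤ p.asIdeal) (i : ℕ) (hi : i ≤ s) :
    ∃ g : A, g ∉ p.asIdeal ∧ ∀ ψ : (DRing.RgammaI I).obj (Dual.inD A A) ⟶
      ((DRing.RgammaI J).obj (Dual.inD A M))⟦(i : ℤ)⟧, g • ψ = 0 := by
  obtain ⟨ω₀, hω₀⟩ := hA
  obtain ⟨n₀, hn₀, hω, hnor⟩ := ProZ.exists_normalized hω₀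
  let ω := ω₀⟦n₀ (IsLocalRing.closedPoint A)⟧
  obtain ⟨n, -, hcov, hmono, -⟩ := KFlatLib.exists_extDegree hω
  haveI := hasRgammaI (J ⊔ I)
  let L := (DRing.RgammaI I).obj (Dual.inD A A)
  haveI : L.IsLE d := isLE_rgamma_unit I d hcd
  let R := (DRing.RgammaI (J ⊔ I)).obj (Dual.inD A M)
  haveI : R.IsGE 0 := isGE_rgamma (J ⊔ I) (ModuleCat.of A M)
  haveI : (R⟦(i : ℤ)⟧).IsGE (-(i : ℤ)) := TStructure.t.isGE_shift R 0 i (-(i : ℤ)) (by omega)
  have hne : ¬ I ≤ p.asIdeal ∧ ¬ J ≤ p.asIdeal :=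
    ⟨fun h => hp (Ideal.mul_le_right.trans h), fun h => hp (Ideal.mul_le_left.trans h)⟩
  obtain ⟨g, hg, hk⟩ := exists_kill_object p (b := (d : ℤ)) L (d + 1 + i) (R⟦(i : ℤ)⟧) (-(i : ℤ)) inferInstance
    (by push_cast; ring) (fun q hq W hW => by
    let L' := L⟦q⟧
    let sh : ∀ W' : ModuleCat.{u} A,
        (L ⟶ ((DerivedCategory.singleFunctor (ModuleCat.{u} A) 0).obj W')⟦-q⟧) →
          (L' ⟶ (DerivedCategory.singleFunctor (ModuleCat.{u} A) 0).obj W') := fun W' ψ =>
      ψ⟦q⟧' ≫ ((shiftFunctorCompIsoId (Dual.D A) (-q) q (by omega)).app _).hom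
    have hsh : ∀ (g : A) (W' : ModuleCat.{u} A) ψ, g • sh W' ψ = sh W' (g • ψ) := fun g W' ψ => by
      simp only [sh, Functor.map_smul, Linear.smul_comp]
    have hsh0 : ∀ (W' : ModuleCat.{u} A) ψ, sh W' ψ = 0 → ψ = 0 := fun W' ψ h => by
      refine (shiftFunctor (Dual.D A) q).map_injective ?_
      rw [Functor.map_zero, ← cancel_mono ((shiftFunctorCompIsoId (Dual.D A) (-q) q (by omega)).app _).hom, zero_comp]
      exact h
    let ψe := (((DerivedCategory.homologyFunctor (ModuleCat.{u} A) 0).shiftIso (i : ℤ) q ((i : ℤ) + q) rfl).app R).toLinearEquiv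
    rcases lt_or_ge ((i : ℤ) + q) 0 with hneg | hpos
    · refine ⟨1, fun h1 => p.isPrime.ne_top ((Ideal.eq_top_iff_one _).2 h1), fun ψ => ?_⟩
      have h1 : (1 : A) • 𝟙 W = 0 := ModuleCat.hom_ext (LinearMap.ext fun w => hW 1 (fun x => by
        haveI := ModuleCat.subsingleton_of_isZero (DerivedCategory.isZero_of_isGE R 0 ((i : ℤ) + q) hneg)
        exact ψe.injective (@Subsingleton.elim _
          (this : Subsingleton (Dual.HD A R ((i : ℤ) + q))) _ _)) w)
      rw [← Category.comp_id ψ, ← CategoryTheory.Functor.map_id, ← CategoryTheory.Functor.map_id]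
      rw [← Linear.comp_smul, ← Functor.map_smul, ← Functor.map_smul, h1, Functor.map_zero, Functor.map_zero, comp_zero]
    obtain ⟨q₀, hq₀⟩ : ∃ q₀ : ℕ, (i : ℤ) + q = q₀ := ⟨((i : ℤ) + q).toNat, by omega⟩
    haveI := KFlatLib.finite_hom_dualizing hω M (-(q₀ : ℤ))
    let 𝔞 := Module.annihilator A (Dual.inD A M ⟶ ω⟦-(q₀ : ℤ)⟧)
    have hkill : ∀ c ∈ 𝔞, ∀ x : Dual.HD A (R⟦(i : ℤ)⟧) q, c • x = 0 := by
      intro c hc x
      refine ψe.injective ?_
      rw [map_smul, map_zero]
      refine smul_hd_rgamma (J ⊔ I) (Dual.inD A M) (ModuleCat.of A M) _ _ (Iso.refl _) c (fun j hj z => ?_)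
        (IsNoetherian.noetherian _) _
      obtain rfl : j = q₀ := by omega
      have hrad : ∀ r : PrimeSpectrum A, J ⊔ I ≤ r.asIdeal → r.asIdeal = maximalIdeal A := fun r hr =>
        hV r (le_sup_left.trans hr) (le_sup_right.trans hr)
      obtain ⟨y, rfl⟩ := (AlgLC.bijective_of_depth (M := M) (s := j) hJI
        (fun r h1 h2 => absurd (hrad r h1).ge h2) j le_rfl).2 z
      rw [← map_smul]
      have hc2 : c ∈ Module.annihilator A (LocCoh.H (maximalIdeal A) j M) :=
        (Groth.Agent.S1713.result A ω hω hnor M j) ▸ hc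
      exact (congrArg _ (Module.mem_annihilator.1 hc2 y)).trans (map_zero _)
    obtain ⟨g, hg, hk⟩ := exists_kill_module p L' 𝔞 (fun P hP hPp W' hW' ξ => by
      have hPI : ¬ I ≤ P.asIdeal := fun h => hne.1 (h.trans hPp)
      have hPJ : ¬ J ≤ P.asIdeal := fun h => hne.2 (h.trans hPp)
      obtain ⟨e, he, -⟩ := KFlatLib.ringKrullDim_quotient_eq hcov hmono P
      have hsupp : P ∈ Module.support A (Dual.inD A M ⟶ ω⟦-(q₀ : ℤ)⟧) := Module.mem_support_iff_of_finite.2 hP
      have hdep := (Groth.Agent.S1712.result A ω hω hnor M q₀ P).1 ⟨q₀, le_rfl, hsupp⟩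
      let ξ' : L ⟶ ((DerivedCategory.singleFunctor (ModuleCat.{u} A) 0).obj W')⟦-q⟧ :=
        ((shiftFunctorCompIsoId (Dual.D A) q (-q) (by omega)).app L).inv ≫ ξ⟦-q⟧'
      have h0 : ξ' = 0 := hom_module_eq_zero hcd hG P hPI hPJ he q₀ i q (by exact_mod_cast hi) (by omega) hdep W' hW' ξ'
      refine (shiftFunctor (Dual.D A) (-q)).map_injective ?_
      rw [Functor.map_zero, ← cancel_epi ((shiftFunctorCompIsoId (Dual.D A) q (-q) (by omega)).app L).inv, comp_zero]
      exact h0) W (fun c hc w => hW c (hkill c hc) w)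
    exact ⟨g, hg, fun ψ => hsh0 W (g • ψ) (by rw [← hsh]; exact hk _)⟩)
  obtain ⟨eZ⟩ := Groth.Agent.S1816.result A J I (Dual.inD A M)
  refine ⟨g, hg, fun ψ => ?_⟩
  obtain ⟨ψ₀, rfl⟩ := (((tb_rgammaε I ((DRing.RgammaI J).obj (Dual.inD A M))).shift I (i : ℤ)) L
    (isPowerTorsion_hd_rgamma I (Dual.inD A A))).2 ψ
  show g • (ψ₀ ≫ _) = 0
  rw [← Linear.smul_comp]
  have h0 : g • ψ₀ = 0 := by
    rw [← cancel_mono (eZ.hom⟦(i : ℤ)⟧'), zero_comp, Linear.smul_comp]
    exact hk _
  rw [h0, zero_comp]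

/-- A power of the product ideal kills. -/
theorem exists_kill (hA : ∃ ω : Dual.D A, Dual.IsDualizing A ω) {d : ℕ} (hcd : LocCoh.CdLE A I d)
    (hV : ∀ r : PrimeSpectrum A, J ≤ r.asIdeal → I ≤ r.asIdeal → r.asIdeal = maximalIdeal A)
    (hJI : J ⊔ I ≤ maximalIdeal A)
    {s : ℕ} (M : Type u) [AddCommGroup M] [Module A M] [Module.Finite A M] (hG : Good I J d s M) :
    ∃ c : ℕ, ∀ i : ℤ, 0 ≤ i → i ≤ s → ∀ x ∈ (J * I) ^ c, ∀ ψ : (DRing.RgammaI I).obj (Dual.inD A A) ⟶
      ((DRing.RgammaI J).obj (Dual.inD A M))⟦i⟧, x • ψ = 0 := by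
  let V : Ideal A :=
    { carrier := {x | ∀ i : ℕ, i ≤ s → ∀ ψ : (DRing.RgammaI I).obj (Dual.inD A A) ⟶
        ((DRing.RgammaI J).obj (Dual.inD A M))⟦(i : ℤ)⟧, x • ψ = 0}
      zero_mem' := fun i _ ψ => zero_smul A ψ
      add_mem' := fun hx hy i hi ψ => by rw [add_smul, hx i hi, hy i hi, add_zero]
      smul_mem' := fun r x hx i hi ψ => by rw [smul_eq_mul, mul_smul, hx i hi, smul_zero] }
  have hrad : J * I ≤ V.radical := by
    rw [Ideal.radical_eq_sInf]
    refine le_sInf fun P hP => ?_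
    by_contra hn
    choose g hg hk using fun i : Fin (s + 1) =>
      exists_kill_point hA hcd hV hJI M hG ⟨P, hP.2⟩ hn i (Nat.lt_succ_iff.1 i.2)
    have hmem : ∏ i, g i ∈ V := fun i hi ψ => by
      obtain ⟨r, hr⟩ := Finset.dvd_prod_of_mem g (Finset.mem_univ (⟨i, Nat.lt_succ_iff.2 hi⟩ : Fin (s + 1)))
      rw [hr, mul_comm, mul_smul]
      exact (congrArg (r • ·) (hk ⟨i, Nat.lt_succ_iff.2 hi⟩ ψ)).trans (smul_zero r)
    obtain ⟨j, -, hj⟩ := (hP.2.prod_mem_iff).1 (hP.1 hmem)
    exact hg j hj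
  obtain ⟨c, hc⟩ := Ideal.exists_pow_le_of_le_radical_of_fg hrad (IsNoetherian.noetherian _)
  refine ⟨c, fun i hi0 hi x hx ψ => ?_⟩
  obtain ⟨i', rfl⟩ : ∃ i' : ℕ, (i' : ℤ) = i := ⟨i.toNat, by omega⟩
  exact hc hx i' (by exact_mod_cast hi) ψ

/-- The main bootstrap. -/
theorem bijective_of_good (hA : ∃ ω : Dual.D A, Dual.IsDualizing A ω) {d : ℕ} (hcd : LocCoh.CdLE A I d)
    (hV : ∀ r : PrimeSpectrum A, J ≤ r.asIdeal → I ≤ r.asIdeal → r.asIdeal = maximalIdeal A)
    (hJI : J ⊔ I ≤ maximalIdeal A)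
    {s : ℕ} (M : Type u) [AddCommGroup M] [Module A M] [Module.Finite A M] (hG : Good I J d s M) (i : ℤ) (hi : i ≤ s) :
    Function.Bijective ((DerivedCategory.homologyFunctor (ModuleCat.{u} A) i).map
      (DRing.toDerivedCompletion I ((DRing.RgammaI J).obj (Dual.inD A M)))).hom :=
  bijective_homology I _ i <|
    inv_of_kill I J (fun s N => Good I J d s N) (fun _ N hN h => by haveI := hN; exact good_quot hV h)
      (fun _ N x hN _ hx h => by haveI := hN; exact good_div hx h)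
      (fun _ N hN h => by haveI := hN; exact exists_kill hA hcd hV hJI N h)
      s (ModuleCat.of A M) inferInstance hG i hi

end Groth.Agent.GrLib8.CplKill
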