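import Groth.Agent.GrLib8.CplKill.Basic

/-!
# Completion maps seen from torsion objects
-/

set_option autoImplicit false
set_option linter.style.haveILetI false
set_option backward.isDefEq.respectTransparency false

universe u

open CategoryTheory CategoryTheory.Limits Pretriangulated DerivedCategory

attribute [local instance] HasDerivedCategory.standard

namespace Groth.Agent.GrLib8.CplKill

open Groth.Agent.KFlatLib

variable {A : Type u} [CommRing A] (I : Ideal A)

/-- The map is bijective on maps out of torsion objects. -/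
def TB {X Y : Dual.D A} (η : X ⟶ Y) : Prop :=
  ∀ L : Dual.D A, (∀ q, LocCoh.IsPowerTorsion I (Dual.HD A L q)) →
    Function.Bijective (fun g : L ⟶ X => g ≫ η)

/-- Shifts of torsion objects are torsion. -/
theorem tors_shift {L : Dual.D A} (h : ∀ q, LocCoh.IsPowerTorsion I (Dual.HD A L q)) (k q : ℤ) :
    LocCoh.IsPowerTorsion I (Dual.HD A (L⟦k⟧) q) := fun x => by
  let ψ := (((DerivedCategory.homologyFunctor (ModuleCat.{u} A) 0).shiftIso k q (k + q) rfl).app L).toLinearEquiv
  obtain ⟨n, hn⟩ := h (k + q) (ψ x)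
  exact ⟨n, fun a ha => ψ.injective (by rw [map_smul, hn a ha, map_zero])⟩

theorem TB.shift {X Y : Dual.D A} {η : X ⟶ Y} (h : TB I η) (k : ℤ) : TB I (η⟦k⟧') := by
  intro L hL
  let L₀ := L⟦-k⟧
  let i : L ≅ L₀⟦k⟧ := (shiftNegShift L k).symm
  let sh : ∀ R : Dual.D A, (L₀ ⟶ R) ≃ (L ⟶ R⟦k⟧) := fun R =>
    ((Functor.FullyFaithful.ofFullyFaithful (CategoryTheory.shiftFunctor (Dual.D A) k)).homEquiv).trans i.symm.homFromEquiv
  have h2 : (fun ψ : L ⟶ X⟦k⟧ => ψ ≫ η⟦k⟧') ∘ sh _ = sh _ ∘ (fun χ => χ ≫ η) := funext fun χ => by simp [sh]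
  exact (Function.Bijective.of_comp_iff _ (sh _).bijective).1 (h2 ▸ (sh _).bijective.comp (h L₀ (fun q => tors_shift I hL (-k) q)))

variable [IsNoetherianRing A] [DRing.HasRgammaI I] [DRing.HasDerivedCompletion I]

/-- If nothing maps from the torsion of `G` then nothing maps from `G` into a completion. -/
theorem hom_eq_zero_of_torsion {X Y G : Dual.D A} {η : X ⟶ Y} (hY : DRing.IsDerivedComplete I Y) (hη : TB I η)
    (h : ∀ φ : (DRing.RgammaI I).obj G ⟶ X, φ = 0) (ψ : G ⟶ Y) : ψ = 0 := by
  refine (RgammaCompletion.bijective_rgammaε_precomp I G Y hY).1 ?_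
  obtain ⟨g, hg⟩ := (hη _ (isPowerTorsion_hd_rgamma I G)).2 ((DRing.RgammaIε I).app G ≫ ψ)
  show (DRing.RgammaIε I).app G ≫ ψ = (DRing.RgammaIε I).app G ≫ 0
  rw [← hg, h g, comp_zero]
  exact zero_comp

/-- The converse. -/
theorem torsion_hom_eq_zero {X Y G : Dual.D A} {η : X ⟶ Y} (hY : DRing.IsDerivedComplete I Y) (hη : TB I η)
    (h : ∀ ψ : G ⟶ Y, ψ = 0) (φ : (DRing.RgammaI I).obj G ⟶ X) : φ = 0 := by
  refine (hη _ (isPowerTorsion_hd_rgamma I G)).1 ?_
  show φ ≫ η = 0 ≫ η
  obtain ⟨ψ, hψ⟩ := (RgammaCompletion.bijective_rgammaε_precomp I G Y hY).2 (φ ≫ η)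
  rw [zero_comp, ← hψ, h ψ]
  exact comp_zero

theorem tb_toCompletion (X : Dual.D A) : TB I (DRing.toDerivedCompletion I X) := by
  intro L hL
  haveI := RgammaCompletion.isIso_rgamma_toCompletion I X
  refine (Function.Bijective.of_comp_iff _ (rgammaε_bijective I L X hL)).1 ?_
  convert (rgammaε_bijective I L _ hL).comp
    (asIso ((DRing.RgammaI I).map (DRing.toDerivedCompletion I X))).homToEquiv.bijective using 1
  funext g
  show (g ≫ _) ≫ DRing.toDerivedCompletion I X = (g ≫ _) ≫ _
  rw [Category.assoc, Category.assoc]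
  exact congrArg (g ≫ ·) ((DRing.RgammaIε I).naturality (DRing.toDerivedCompletion I X)).symm

/-- Restriction along the torsion of the free module is bijective. -/
def Inv (X : Dual.D A) : Prop :=
  Function.Bijective (fun φ : Dual.inD A A ⟶ X => (DRing.RgammaIε I).app (Dual.inD A A) ≫ φ)

/-- `Inv` makes the completion map bijective on maps out of the free module. -/
theorem bijective_postcomp_of_inv {X Y : Dual.D A} {η : X ⟶ Y} (hY : DRing.IsDerivedComplete I Y) (hη : TB I η)
    (h : Inv I X) : Function.Bijective (fun φ : Dual.inD A A ⟶ X => φ ≫ η) := by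
  refine (Function.Bijective.of_comp_iff' (RgammaCompletion.bijective_rgammaε_precomp I _ Y hY) _).1 ?_
  convert (hη _ (isPowerTorsion_hd_rgamma I (Dual.inD A A))).comp h using 1
  funext φ
  exact (Category.assoc _ _ _).symm

theorem Inv.of_iso {X X' : Dual.D A} (e : X ≅ X') (h : Inv I X) : Inv I X' := by
  refine (Function.Bijective.of_comp_iff _ e.homToEquiv.bijective).1 ?_
  convert e.homToEquiv.bijective.comp h using 1
  funext φ
  exact (Category.assoc _ _ _).symm

/-- Complete objects satisfy `Inv`. -/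
theorem inv_of_complete {X : Dual.D A} (hX : DRing.IsDerivedComplete I X) : Inv I X :=
  RgammaCompletion.bijective_rgammaε_precomp I _ X hX

/-- The natural identification of maps out of the free module with cohomology. -/
theorem bijective_H0_postcomp {X Y : Dual.D A} (η : X ⟶ Y)
    (h : Function.Bijective (fun φ : Dual.inD A A ⟶ X => φ ≫ η)) :
    Function.Bijective ((DerivedCategory.homologyFunctor (ModuleCat.{u} A) 0).map η).hom := by
  let H := DerivedCategory.homologyFunctor (ModuleCat.{u} A) 0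
  let G := Dual.inD A A
  let eG : H.obj G ≅ ModuleCat.of A A :=
    (DerivedCategory.singleFunctorCompHomologyFunctorIso (ModuleCat.{u} A) 0).app (ModuleCat.of A A)
  let t := DerivedCategory.TStructure.t (C := ModuleCat.{u} A)
  haveI : G.IsLE 0 := inferInstanceAs (((DerivedCategory.singleFunctor (ModuleCat.{u} A) 0).obj _).IsLE 0)
  have hzero : ∀ (W : Dual.D A), W.IsLE (-1) → ∀ φ : G ⟶ W, φ = 0 := by
    intro W hW φ
    haveI := hW
    obtain ⟨e⟩ := exists_homUnitLEquiv W 0 0 (add_zero 0)
    let eU : (DTen.unit A)⟦(0 : ℤ)⟧ ≅ G := (shiftFunctorZero (Dual.D A) ℤ).app _ ≪≫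
      ((DerivedCategory.singleFunctorIsoCompQ (ModuleCat.{u} A) 0).app (ModuleCat.of A A)).symm
    haveI := (ModuleCat.subsingleton_of_isZero (DerivedCategory.isZero_of_isLE W (-1) 0 (by norm_num)) :
      Subsingleton (Dual.HD A W 0))
    rw [← cancel_epi eU.hom, comp_zero]
    exact e.toEquiv.subsingleton.elim _ _
  have key : ∀ (W : Dual.D A), Function.Bijective (fun φ : G ⟶ W => H.map φ) := by
    intro W
    let W' := (t.truncGE 0).obj W
    let π : W ⟶ W' := (t.truncGEπ 0).app W
    haveI : W'.IsGE 0 := t.isGE_truncGE_obj ..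
    haveI : IsIso (H.map π) := H9Misc.isIso_map_truncGEπ 0 0 le_rfl W
    haveI : ((t.truncLT 0).obj W).IsLE (-1) := t.isLE_truncLT_obj ..
    have hπ : Function.Bijective (fun φ : G ⟶ W => φ ≫ π) := by
      refine ⟨fun a b hab => sub_eq_zero.1 ?_, fun ψ => ?_⟩
      · obtain ⟨q, hq⟩ := Triangle.coyoneda_exact₂ _ (t.triangleLTGE_distinguished 0 W) (a - b)
          (show (a - b) ≫ π = 0 by rw [Preadditive.sub_comp, sub_eq_zero]; exact hab)
        rw [hq, hzero _ (show ((t.truncLT 0).obj W).IsLE (-1) from inferInstance) q]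
        exact zero_comp
      · have h1 : (((t.truncLT 0).obj W)⟦(1 : ℤ)⟧).IsLE (-1) := by
          haveI h2 : (((t.truncLT 0).obj W)⟦(1 : ℤ)⟧).IsLE (-2) :=
            t.isLE_shift ((t.truncLT 0).obj W) (-1) 1 (-2) (by norm_num)
          exact t.isLE_of_le _ (-2) (-1) (by norm_num)
        obtain ⟨φ, hφ⟩ := Triangle.coyoneda_exact₃ _ (t.triangleLTGE_distinguished 0 W) ψ (hzero _ h1 _)
        exact ⟨φ, hφ.symm⟩
    refine (Function.Bijective.of_comp_iff'
      (show Function.Bijective (fun g : H.obj G ⟶ H.obj W => g ≫ H.map π) from (asIso (H.map π)).homToEquiv.bijective) _).1 ?_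
    convert (bijective_homologyMap (X := G) (Y := W') 0).comp hπ using 1
    funext φ
    exact (H.map_comp φ π).symm
  have h2 : Function.Bijective (fun g : H.obj G ⟶ H.obj X => g ≫ H.map η) := by
    refine (Function.Bijective.of_comp_iff _ (key X)).1 ?_
    convert (key Y).comp h using 1
    funext φ
    exact (H.map_comp φ η).symm
  let el : ∀ W : Dual.D A, H.obj W → (H.obj G ⟶ H.obj W) := fun W x =>
    eG.hom ≫ ModuleCat.ofHom (LinearMap.toSpanSingleton A _ x)
  have hel : ∀ W, Function.Bijective (el W) := fun W => by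
    refine ⟨fun x y hxy => ?_, fun g => ⟨(eG.inv ≫ g).hom 1, ?_⟩⟩
    · have := LinearMap.congr_fun (congrArg ModuleCat.Hom.hom ((cancel_epi eG.hom).1 hxy)) 1
      simpa using this
    · show eG.hom ≫ _ = g
      rw [← cancel_epi eG.inv, eG.inv_hom_id_assoc]
      exact ModuleCat.hom_ext (LinearMap.ext_ring (one_smul A _))
  refine (Function.Bijective.of_comp_iff' (hel Y) _).1 ?_
  convert h2.comp (hel X) using 1
  funext x
  show eG.hom ≫ _ = (eG.hom ≫ _) ≫ H.map η
  rw [Category.assoc]
  refine congrArg (eG.hom ≫ ·) (ModuleCat.hom_ext (LinearMap.ext_ring ?_))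
  simp
  rfl

/-- Cohomology of a completion map. -/
theorem bijective_homology (X : Dual.D A) (k : ℤ) (h : Inv I (X⟦k⟧)) :
    Function.Bijective
      ((DerivedCategory.homologyFunctor (ModuleCat.{u} A) k).map (DRing.toDerivedCompletion I X)).hom := by
  let η := DRing.toDerivedCompletion I X
  have h0 := bijective_H0_postcomp (η⟦k⟧') (bijective_postcomp_of_inv I
    (H9Misc.DRingCompl.isDerivedComplete_shift ((DRing.derivedCompletion I).obj X).property k)
    ((tb_toCompletion I X).shift I k) h)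
  let s := (DerivedCategory.homologyFunctor (ModuleCat.{u} A) 0).shiftIso k 0 k (add_zero k)
  have hn := s.hom.naturality η
  haveI : IsIso ((DerivedCategory.homologyFunctor (ModuleCat.{u} A) 0).map (η⟦k⟧')) :=
    (ConcreteCategory.isIso_iff_bijective _).2 h0
  refine (ConcreteCategory.isIso_iff_bijective _).1 ?_
  exact (NatIso.isIso_map_iff s η).1 ‹_›

end Groth.Agent.GrLib8.CplKill
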