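import Groth.Agent.GrLib8.CplKill.TB
import Groth.Agent.S7040
import Groth.Agent.S7048
import Groth.Agent.S7050
import Groth.Agent.LC.HTensor

/-!
# Triangles of derived torsion objects
-/

set_option autoImplicit false
set_option linter.style.haveILetI false
set_option backward.isDefEq.respectTransparency false

universe u

open CategoryTheory CategoryTheory.Limits Pretriangulated DerivedCategory

attribute [local instance] HasDerivedCategory.standard

namespace Groth.Agent.GrLib8.CplKill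

open Groth.Agent.KFlatLib

variable {A : Type u} [CommRing A]

/-- Two out of three for bijectivity on maps out of torsion objects. -/
theorem TB.third (J : Ideal A) {T T' : Triangle (Dual.D A)} (hT : T ∈ distTriang _) (hT' : T' ∈ distTriang _)
    (f : T ⟶ T') (h₁ : TB J f.hom₁) (h₂ : TB J f.hom₂) : TB J f.hom₃ := by
  intro L hL
  refine ⟨fun g g' hg => sub_eq_zero.1 ?_, fun x => ?_⟩
  · have h0 : (g - g') ≫ f.hom₃ = 0 := by rw [Preadditive.sub_comp, sub_eq_zero]; exact hg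
    have h3 : (g - g') ≫ T.mor₃ = 0 := ((h₁.shift J 1) L hL).1 (by
      show ((g - g') ≫ T.mor₃) ≫ f.hom₁⟦(1 : ℤ)⟧' = 0 ≫ f.hom₁⟦(1 : ℤ)⟧'
      rw [Category.assoc, f.comm₃, ← Category.assoc, h0, zero_comp, zero_comp])
    obtain ⟨k, hk⟩ := Triangle.coyoneda_exact₃ _ hT _ h3
    obtain ⟨m, hm⟩ := Triangle.coyoneda_exact₂ _ hT' (k ≫ f.hom₂) (by
      rw [Category.assoc, ← f.comm₂, ← Category.assoc, ← hk, h0])
    obtain ⟨m₀, rfl⟩ := (h₁ L hL).2 m
    have hk2 : k = m₀ ≫ T.mor₁ := (h₂ L hL).1 (by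
      show k ≫ f.hom₂ = (m₀ ≫ T.mor₁) ≫ f.hom₂
      rw [hm, Category.assoc, Category.assoc, f.comm₁])
    rw [hk, hk2, Category.assoc, comp_distTriang_mor_zero₁₂ _ hT, comp_zero]
  · obtain ⟨m, hm⟩ := ((h₁.shift J 1) L hL).2 (x ≫ T'.mor₃)
    dsimp only at hm
    have h3 : m ≫ T.mor₁⟦(1 : ℤ)⟧' = 0 := ((h₂.shift J 1) L hL).1 (by
      show (m ≫ T.mor₁⟦(1 : ℤ)⟧') ≫ f.hom₂⟦(1 : ℤ)⟧' = 0 ≫ f.hom₂⟦(1 : ℤ)⟧'
      rw [Category.assoc, ← Functor.map_comp, f.comm₁, Functor.map_comp, ← Category.assoc, hm, Category.assoc,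
        zero_comp]
      exact (congrArg (x ≫ ·) (comp_distTriang_mor_zero₃₁ _ hT')).trans comp_zero)
    obtain ⟨g₀, hg₀⟩ := Triangle.coyoneda_exact₁ _ hT m h3
    obtain ⟨n, hn⟩ := Triangle.coyoneda_exact₃ _ hT' (x - g₀ ≫ f.hom₃) (by
      rw [Preadditive.sub_comp, Category.assoc, ← f.comm₃, ← Category.assoc, ← hg₀, hm, sub_self])
    obtain ⟨n₀, rfl⟩ := (h₂ L hL).2 n
    refine ⟨g₀ + n₀ ≫ T.mor₂, ?_⟩
    show (g₀ + n₀ ≫ T.mor₂) ≫ f.hom₃ = x
    rw [Preadditive.add_comp, Category.assoc n₀, f.comm₂, ← Category.assoc n₀, ← hn]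
    abel

/-- Scalars killing a module kill its local cohomology. -/
theorem smul_H (J : Ideal A) (N : ModuleCat.{u} A) (j : ℕ) (a : A) (h : ∀ y : N, a • y = 0)
    (z : (localCohomology J j).obj N) : a • z = 0 := by
  have h1 : a • 𝟙 N = (0 : N ⟶ N) := ModuleCat.hom_ext (LinearMap.ext fun y => h y)
  calc a • z = a • ((localCohomology J j).map (𝟙 N)).hom z := by rw [CategoryTheory.Functor.map_id]; rfl
    _ = ((localCohomology J j).map (a • 𝟙 N)).hom z := (LC.map_smul_apply J j a (𝟙 N) z).symm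
    _ = 0 := by rw [h1, LC.map_zero_apply]

variable [IsNoetherianRing A] (J : Ideal A) [DRing.HasRgammaI J]

theorem tb_rgammaε (X : Dual.D A) : TB J ((DRing.RgammaIε J).app X) :=
  fun L hL => rgammaε_bijective J L X hL

/-- Torsion objects with a map bijective on maps out of torsion objects compute derived torsion. -/
theorem exists_iso_of_tb {C X : Dual.D A} (p : C ⟶ X) (hC : ∀ q, LocCoh.IsPowerTorsion J (Dual.HD A C q))
    (hp : TB J p) : ∃ e : (DRing.RgammaI J).obj X ≅ C, e.hom ≫ p = (DRing.RgammaIε J).app X := by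
  have hR := fun q => isPowerTorsion_hd_rgamma J X q
  obtain ⟨h, hh⟩ := (hp _ hR).2 ((DRing.RgammaIε J).app X)
  obtain ⟨g, hg⟩ := (rgammaε_bijective J C X hC).2 p
  dsimp only at hh hg
  refine ⟨⟨h, g, (rgammaε_bijective J _ X hR).1 ?_, (hp _ hC).1 ?_⟩, hh⟩
  · show (h ≫ g) ≫ _ = 𝟙 _ ≫ _
    rw [Category.assoc, hg, Category.id_comp]
    exact hh
  · show (g ≫ h) ≫ p = 𝟙 _ ≫ p
    rw [Category.assoc, hh, Category.id_comp]
    exact hg

theorem rgamma_map_smul (x : A) (X : Dual.D A) :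
    (DRing.RgammaI J).map (x • 𝟙 X) = x • 𝟙 ((DRing.RgammaI J).obj X) := by
  refine (rgammaε_bijective J _ X (isPowerTorsion_hd_rgamma J X)).1 ?_
  show (DRing.RgammaI J).map _ ≫ _ = _ ≫ _
  refine ((DRing.RgammaIε J).naturality (x • 𝟙 X)).trans ?_
  rw [Linear.smul_comp, Category.id_comp]
  show _ ≫ (x • 𝟙 X) = _
  rw [Linear.comp_smul]
  exact congrArg (x • ·) (Category.comp_id _)

/-- Derived torsion of a distinguished triangle. -/
theorem exists_triangle_rgamma {X₁ X₂ X₃ : Dual.D A} {u : X₁ ⟶ X₂} {v : X₂ ⟶ X₃} {w : X₃ ⟶ X₁⟦(1 : ℤ)⟧}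
    (hT : Triangle.mk u v w ∈ distTriang (Dual.D A)) :
    ∃ (v' : (DRing.RgammaI J).obj X₂ ⟶ (DRing.RgammaI J).obj X₃)
      (w' : (DRing.RgammaI J).obj X₃ ⟶ ((DRing.RgammaI J).obj X₁)⟦(1 : ℤ)⟧),
      Triangle.mk ((DRing.RgammaI J).map u) v' w' ∈ distTriang (Dual.D A) := by
  obtain ⟨C, v₀, w₀, hC⟩ := distinguished_cocone_triangle ((DRing.RgammaI J).map u)
  have hsq : (DRing.RgammaI J).map u ≫ (DRing.RgammaIε J).app X₂ = (DRing.RgammaIε J).app X₁ ≫ u :=
    (DRing.RgammaIε J).naturality u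
  obtain ⟨p, hp₁, hp₂⟩ := complete_distinguished_triangle_morphism _ _ hC hT
    ((DRing.RgammaIε J).app X₁) ((DRing.RgammaIε J).app X₂) hsq
  let f : Triangle.mk ((DRing.RgammaI J).map u) v₀ w₀ ⟶ Triangle.mk u v w :=
    { hom₁ := (DRing.RgammaIε J).app X₁
      hom₂ := (DRing.RgammaIε J).app X₂
      hom₃ := p
      comm₁ := hsq
      comm₂ := hp₁
      comm₃ := hp₂ }
  have hp : TB J p := TB.third J hC hT f (tb_rgammaε J X₁) (tb_rgammaε J X₂)
  haveI := Groth.Agent.S7040.result J (IsNoetherian.noetherian J)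
  have htor : ∀ q, LocCoh.IsPowerTorsion J (Dual.HD A C q) := fun q =>
    ObjectProperty.prop_X₂_of_exact (fun M : ModuleCat.{u} A => LocCoh.IsPowerTorsion J M)
      (DerivedCategory.HomologySequence.exact₃ _ hC q (q + 1) rfl)
      (isPowerTorsion_hd_rgamma J X₂ q) (isPowerTorsion_hd_rgamma J X₁ (q + 1))
  obtain ⟨e, -⟩ := exists_iso_of_tb J p htor hp
  exact ⟨v₀ ≫ e.inv, e.hom ≫ w₀, isomorphic_distinguished _ hC _
    (Triangle.isoMk _ _ (Iso.refl _) (Iso.refl _) e (by simp) (by simp) (by simp))⟩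

/-- Derived torsion of a module has no negative cohomology. -/
theorem isGE_rgamma (M : ModuleCat.{u} A) :
    ((DRing.RgammaI J).obj (Dual.inD A M)).IsGE 0 :=
  (DerivedCategory.isGE_iff _ _).2 fun q hq => by
    refine @ModuleCat.isZero_of_subsingleton _ _ _ (subsingleton_of_forall_eq 0 fun y => ?_)
    rw [← one_smul A y]
    exact smul_hd_rgamma J (Dual.inD A M) M q q (Iso.refl _) 1
      (fun j hj => absurd hj (by omega)) (IsNoetherian.noetherian _) y

/-- Maps from the free module see the torsion of the cohomology. -/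
theorem exists_pow_smul_eq_zero (W : Dual.D A) (h : LocCoh.IsPowerTorsion J (Dual.HD A W 0))
    (φ : Dual.inD A A ⟶ W) : ∃ c : ℕ, ∀ a ∈ J ^ c, a • φ = 0 := by
  obtain ⟨e⟩ := exists_homUnitLEquiv W 0 0 (add_zero 0)
  let eU : (DTen.unit A)⟦(0 : ℤ)⟧ ≅ Dual.inD A A := (shiftFunctorZero (Dual.D A) ℤ).app _ ≪≫
    ((DerivedCategory.singleFunctorIsoCompQ (ModuleCat.{u} A) 0).app (ModuleCat.of A A)).symm
  obtain ⟨c, hc⟩ := h (e (eU.hom ≫ φ))
  refine ⟨c, fun a ha => ?_⟩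
  rw [← cancel_epi eU.hom, comp_zero, Linear.comp_smul]
  exact e.injective (by rw [map_smul, hc a ha, map_zero])

variable (I : Ideal A) [DRing.HasRgammaI I]

/-- `Inv` in the middle of a triangle. -/
theorem inv_middle {X₁ X₂ X₃ : Dual.D A} {u : X₁ ⟶ X₂} {v : X₂ ⟶ X₃} {w : X₃ ⟶ X₁⟦(1 : ℤ)⟧}
    (hT : Triangle.mk u v w ∈ distTriang (Dual.D A)) (h₁ : Inv I X₁) (h₁' : Inv I (X₁⟦(1 : ℤ)⟧)) (h₃ : Inv I X₃)
    (h₀ : Inv I (X₃⟦(-1 : ℤ)⟧)) : Inv I X₂ := by
  let ε := (DRing.RgammaIε I).app (Dual.inD A A)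
  refine ⟨fun a b hab => sub_eq_zero.1 ?_, fun x => ?_⟩
  · have ha : ε ≫ (a - b) = 0 := by rw [Preadditive.comp_sub, sub_eq_zero]; exact hab
    have h3 : (a - b) ≫ v = 0 := h₃.1 (by
      show ε ≫ (a - b) ≫ v = ε ≫ 0
      rw [← Category.assoc, ha, zero_comp, comp_zero])
    obtain ⟨q, hq⟩ := Triangle.coyoneda_exact₂ _ hT (a - b) h3
    obtain ⟨c, hc⟩ := Triangle.coyoneda_exact₂ _ (inv_rot_of_distTriang _ hT) (ε ≫ q) (by
      show (ε ≫ q) ≫ u = 0
      rw [Category.assoc]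
      exact (congrArg (ε ≫ ·) hq.symm).trans ha)
    obtain ⟨c', rfl⟩ := h₀.2 c
    have hq2 : q = c' ≫ (Triangle.mk u v w).invRotate.mor₁ := h₁.1 (by
      show ε ≫ q = ε ≫ c' ≫ _
      rw [hc]
      exact Category.assoc _ _ _)
    rw [hq, hq2, Category.assoc]
    exact (congrArg (c' ≫ ·) (comp_distTriang_mor_zero₁₂ _ (inv_rot_of_distTriang _ hT))).trans comp_zero
  · obtain ⟨y, hy⟩ := h₃.2 (x ≫ v)
    dsimp only at hy
    have hyw : y ≫ w = 0 := h₁'.1 (by
      show ε ≫ y ≫ w = ε ≫ 0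
      rw [← Category.assoc, hy, Category.assoc, comp_zero]
      exact (congrArg (x ≫ ·) (comp_distTriang_mor_zero₂₃ _ hT)).trans comp_zero)
    obtain ⟨z, hz⟩ := Triangle.coyoneda_exact₃ _ hT y hyw
    let z₀ : Dual.inD A A ⟶ X₂ := z
    let x₀ : (DRing.RgammaI I).obj (Dual.inD A A) ⟶ X₂ := x
    obtain ⟨t, ht⟩ := Triangle.coyoneda_exact₂ _ hT (x₀ - ε ≫ z₀) (by
      show (x₀ - ε ≫ z₀) ≫ v = 0
      rw [Preadditive.sub_comp, Category.assoc, show z₀ ≫ v = y from hz.symm, hy, sub_self])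
    obtain ⟨t', rfl⟩ := h₁.2 t
    refine ⟨z₀ + t' ≫ u, ?_⟩
    show ε ≫ (z₀ + t' ≫ u) = x₀
    rw [Preadditive.comp_add, ← Category.assoc ε t' u]
    exact eq_add_of_sub_eq' ht |>.symm

omit [DRing.HasRgammaI I] [DRing.HasRgammaI J] [IsNoetherianRing A] in
/-- A module killed by a power of the ideal is derived complete. -/
theorem isDerivedComplete_inD_of_killed (N : Type u) [AddCommGroup N] [Module A N] (c : ℕ)
    (h : ∀ a ∈ I ^ c, ∀ x : N, a • x = 0) : DRing.IsDerivedComplete I (Dual.inD A N) := by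
  have hbot : (I ^ c • ⊤ : Submodule A N) = ⊥ := by
    rw [eq_bot_iff, Submodule.smul_le]
    exact fun a ha x _ => by rw [h a ha x]; exact zero_mem _
  haveI : IsHausdorff I N := ⟨fun x hx => by
    have := hx c
    rw [hbot, SModEq.zero, Submodule.mem_bot] at this
    exact this⟩
  haveI : IsPrecomplete I N := ⟨fun f hf => ⟨f c, fun n => by
    rcases le_total n c with hn | hn
    · exact hf hn
    · have h1 := hf hn
      rw [hbot, SModEq.bot] at h1
      rw [← h1]⟩⟩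
  haveI : IsAdicComplete I N := ⟨⟩
  exact Groth.Agent.S7048.result I N

omit [DRing.HasRgammaI I] in
/-- Derived torsion of a module killed by a power of the ideal is derived complete. -/
theorem isDerivedComplete_rgamma_of_killed (N : ModuleCat.{u} A) (c : ℕ) (h : ∀ a ∈ I ^ c, ∀ x : N, a • x = 0) :
    DRing.IsDerivedComplete I ((DRing.RgammaI J).obj (Dual.inD A N)) := by
  refine (Groth.Agent.S7050.result I _).2 fun q => isDerivedComplete_inD_of_killed I _ c fun a ha x => ?_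
  refine smul_hd_rgamma J (Dual.inD A N) N q q (Iso.refl _) a (fun j _ z => ?_) (IsNoetherian.noetherian _) x
  exact smul_H J N j a (fun y => h a ha y) z

/-- Derived complete objects form the middle of triangles. -/
theorem isDerivedComplete_middle {X₁ X₂ X₃ : Dual.D A} {u : X₁ ⟶ X₂} {v : X₂ ⟶ X₃} {w : X₃ ⟶ X₁⟦(1 : ℤ)⟧}
    (hT : Triangle.mk u v w ∈ distTriang (Dual.D A)) (h₁ : DRing.IsDerivedComplete I X₁)
    (h₃ : DRing.IsDerivedComplete I X₃) : DRing.IsDerivedComplete I X₂ := fun f hf =>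
  H9Misc.DRingCompl.subsingleton_third (inv_rot_of_distTriang _ hT)
    (fun n => H9Misc.DRingCompl.isDerivedComplete_shift h₃ (-1) f hf n) (h₁ f hf)

end Groth.Agent.GrLib8.CplKill
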